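import Cfsg.Agent.Omega.NO3S.PointFTwo

/-!
# NO-3S, natural lines, the `(R, B)`-frame (TEXT 973-2): points are TI, field automorphisms allowed

`S` a Sylow 2-subgroup of `G`, `V` a natural `SL₂(q)`-module for `P ≥ S`, `Z` (= `R` of the text) the `F`-line of `V`
normalised by `S`, `B = C_S(Z)`.  `S / B` may be a nontrivial group of field automorphisms of `V`; if `S` centralises
`Z` then `B = S` and this is the structure `PT.PL` (`PL.toPB`).  Points are the conjugates of `Z`, lines the conjugates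
of `V`.  The names of the lemmas are those of `PointTI.lean`, `PointFTwo.lean`.

Differences: `PL.two_cent`, `PL.two_comm`, `PL.pts_comm` are FALSE here (a 2-element can normalise a point `X` and act on
it as a field automorphism); they are replaced by

* `PB.norm_of_comm` : `g` commutes with `1 ≠ x ∈ X`, `X` a point ⟹ `g` normalises `X`;
* `PB.two_line` : a 2-element which centralises a point `X` and commutes with some `v ∈ V - X`, `X ≤ V`, normalises `V` only if
  it centralises `V`;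
* **(T3')** `PB.two_col` : a 2-element which centralises a point `X` and commutes with `1 ≠ y ∈ Y`, `Y ≠ X` a point collinear
  with `X`, centralises the line `X Y`.
-/

set_option autoImplicit false
set_option linter.unusedSectionVars false

namespace Cfsg.Agent.Omega.NO3S.PT

open Subgroup Cfsg.Agent.Omega.NoFF.Basic
open Cfsg.Agent.Omega.NoFF.ThmJ (EA MaxEA card_sup_mul)
open scoped Pointwise

variable {G : Type*} [Group G]

/-! ### The hypotheses -/

/-- **The `(R, B)`-frame** (natural lines, field automorphisms allowed); `Z` is the point `R`. -/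
structure PB [Finite G] (S : Sylow 2 G) (B P V Z : Subgroup G) : Prop where
  SP : (S : Subgroup G) ≤ P
  PN : P ≤ normalizer (V : Set G)
  ZV : Z ≤ V
  VB : V ≤ B
  BS : B ≤ (S : Subgroup G)
  Zne : Z ≠ ⊥
  /-- `S` normalises `Z` -/
  SN : (S : Subgroup G) ≤ normalizer (Z : Set G)
  /-- `B = C_S(Z)` -/
  mem_B : ∀ s ∈ (S : Subgroup G), (∀ z ∈ Z, s * z = z * s) → s ∈ B
  cen : ∀ z ∈ Z, ∀ s ∈ B, s * z = z * s
  /-- `Ω₁(Z(B)) ≤ Z` -/
  omega : ∀ x ∈ B, x * x = 1 → (∀ s ∈ B, s * x = x * s) → x ∈ Z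
  Vsq : ∀ v ∈ V, v * v = 1
  part : ∀ v ∈ V, v ≠ 1 → ∃ p ∈ P, v ∈ cj p Z
  act : ∀ s ∈ B, ∀ v ∈ V, s * v * s⁻¹ * v⁻¹ ∈ Z
  free : ∀ s ∈ B, ∀ v ∈ V, v ∉ Z → s * v = v * s → ∀ v' ∈ V, s * v' = v' * s
  full : ∀ v ∈ V, v ∉ Z → ∀ z ∈ Z, ∃ s ∈ B, s * v * s⁻¹ * v⁻¹ = z
  torus : ∀ s ∈ B, ∀ t ∈ B, s ∉ centralizer (V : Set G) →
    t ∉ centralizer (V : Set G) → ∃ k ∈ P, k ∈ normalizer (Z : Set G) ∧ k * s * k⁻¹ * t⁻¹ ∈ centralizer (V : Set G)
  card : Nat.card V = Nat.card Z * Nat.card Z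
  Wcomm : ws V Z ≤ centralizer ((ws V Z : Subgroup G) : Set G)
  /-- TI -/
  ti : ∀ z ∈ Z, z ≠ 1 → ∀ g : G, g * z = z * g → g ∈ normalizer (Z : Set G)
  /-- `N_G(S) ≤ N_G(Z)` -/
  NS : normalizer ((S : Subgroup G) : Set G) ≤ normalizer (Z : Set G)
  /-- every element of `Z` is conjugate in `N_P(Z)` to an element centralised by `S` -/
  tor : ∀ z ∈ Z, z ≠ 1 → ∃ k ∈ P, k ∈ normalizer (Z : Set G) ∧ ∀ s ∈ (S : Subgroup G), s * (k * z * k⁻¹) = k * z * k⁻¹ * s
  /-- (NS) `N_G(B) ≤ N_G(V)` -/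
  NB : normalizer (B : Set G) ≤ normalizer (V : Set G)

/-- `Ω₁(Z(C_B(V))) ≤ V` -/
def OmB (B V : Subgroup G) : Prop :=
  ∀ y ∈ B, y ∈ centralizer (V : Set G) → y * y = 1 →
    (∀ s ∈ B, s ∈ centralizer (V : Set G) → s * y = y * s) → y ∈ V

/-- `PL` with (NS) is a special case. -/
theorem PL.toPB [Finite G] {S : Sylow 2 G} {P V Z : Subgroup G} (h : PL S P V Z)
    (hNB : normalizer ((S : Subgroup G) : Set G) ≤ normalizer (V : Set G)) : PB S (S : Subgroup G) P V Z where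
  SP := h.SP
  PN := h.PN
  ZV := h.ZV
  VB := h.VS
  BS := le_rfl
  Zne := h.Zne
  SN := h.S_le_N
  mem_B := fun s hs _ => hs
  cen := h.cen
  omega := h.omega
  Vsq := h.Vsq
  part := h.part
  act := h.act
  free := h.free
  full := h.full
  torus := h.torus
  card := h.card
  Wcomm := h.Wcomm
  ti := h.ti
  NS := by
    intro n hn
    rw [← cj_eq_iff] at hn
    rw [← cj_eq_iff]
    apply le_antisymm
    · intro x hx
      have hx' := mem_cj.1 hx
      have hxS : x ∈ (S : Subgroup G) := by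
        rw [← hn, mem_cj]
        exact h.VS (h.ZV hx')
      refine h.omega x hxS ?_ fun s hs => ?_
      · have h1 := congrArg (fun t => n * t * n⁻¹) (h.Vsq _ (h.ZV hx'))
        simpa [mul_assoc] using h1
      · have h1 : n⁻¹ * s * n ∈ (S : Subgroup G) := by
          rw [← hn, mem_cj] at hs
          exact hs
        have h2 := congrArg (fun t => n * t * n⁻¹) (h.cen _ hx' _ h1)
        simpa [mul_assoc] using h2
    · intro x hx
      rw [mem_cj]
      have hn' : cj n⁻¹ (S : Subgroup G) = (S : Subgroup G) := by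
        nth_rewrite 1 [← hn]
        rw [cj_cj, inv_mul_cancel, cj_one]
      have hxS : n⁻¹ * x * n ∈ (S : Subgroup G) := by
        rw [← mem_cj, hn]
        exact h.VS (h.ZV hx)
      refine h.omega _ hxS ?_ fun s hs => ?_
      · have h1 := congrArg (fun t => n⁻¹ * t * n) (h.Vsq _ (h.ZV hx))
        simpa [mul_assoc] using h1
      · have h1 : n * s * n⁻¹ ∈ (S : Subgroup G) := by
          rw [← hn', mem_cj, inv_inv] at hs
          exact hs
        have h2 := congrArg (fun t => n⁻¹ * t * n) (h.cen _ hx _ h1)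
        simpa [mul_assoc] using h2
  tor := fun z hz _ => ⟨1, one_mem _, one_mem _, fun s hs => by
    have := h.cen z hz s hs
    simpa using this⟩
  NB := hNB

theorem OmQ.toOmB [Finite G] {S : Sylow 2 G} {V : Subgroup G} (h : OmQ S V) : OmB (S : Subgroup G) V := h

namespace PB

variable [Finite G] {S : Sylow 2 G} {B P V Z : Subgroup G} (h : PB S B P V Z)
include h

theorem VS : V ≤ (S : Subgroup G) := h.VB.trans h.BS

theorem BP : B ≤ P := h.BS.trans h.SP

/-- Everything is invariant under conjugation. -/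
theorem conj (g : G) : PB (g • S) (cj g B) (cj g P) (cj g V) (cj g Z) where
  SP := cj_le_cj.2 h.SP
  PN := by rw [← cj_normalizer]; exact cj_le_cj.2 h.PN
  ZV := cj_le_cj.2 h.ZV
  VB := cj_le_cj.2 h.VB
  BS := cj_le_cj.2 h.BS
  Zne := by
    intro h1
    exact h.Zne (cj_inj.1 (h1.trans (cj_bot g).symm))
  SN := by rw [← cj_normalizer]; exact cj_le_cj.2 h.SN
  mem_B := by
    intro s hs hc
    rw [mem_cj]
    refine h.mem_B _ (mem_cj.1 hs) fun z hz => ?_
    have h1 := hc _ (conj_mem_cj (g := g) hz)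
    have h2 := congrArg (fun t => g⁻¹ * t * g) h1
    simpa [mul_assoc] using h2
  cen := by
    intro z hz s hs
    have h1 := h.cen _ (mem_cj.1 hz) _ (mem_cj.1 hs)
    have h2 := congrArg (fun t => g * t * g⁻¹) h1
    simpa [mul_assoc] using h2
  omega := by
    intro x hx hx2 hxs
    rw [mem_cj]
    refine h.omega _ (mem_cj.1 hx) ?_ fun s hs => ?_
    · calc g⁻¹ * x * g * (g⁻¹ * x * g) = g⁻¹ * (x * x) * g := by group
        _ = 1 := by rw [hx2]; group
    · have h1 := hxs _ (conj_mem_cj (g := g) hs)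
      have h2 := congrArg (fun t => g⁻¹ * t * g) h1
      simpa [mul_assoc] using h2
  Vsq := by
    intro v hv
    have h1 := h.Vsq _ (mem_cj.1 hv)
    have h2 := congrArg (fun t => g * t * g⁻¹) h1
    simpa [mul_assoc] using h2
  part := by
    intro v hv hv1
    obtain ⟨p, hp, hvp⟩ := h.part _ (mem_cj.1 hv) (fun e => hv1 (by
      have h2 := congrArg (fun t => g * t * g⁻¹) e
      simpa [mul_assoc] using h2))
    refine ⟨g * p * g⁻¹, conj_mem_cj hp, ?_⟩
    rw [cj_cj, inv_mul_cancel_right, ← cj_cj, mem_cj]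
    exact hvp
  act := by
    intro s hs v hv
    have h1 := h.act _ (mem_cj.1 hs) _ (mem_cj.1 hv)
    rw [mem_cj]
    have e : g⁻¹ * (s * v * s⁻¹ * v⁻¹) * g =
      g⁻¹ * s * g * (g⁻¹ * v * g) * (g⁻¹ * s * g)⁻¹ * (g⁻¹ * v * g)⁻¹ := by group
    rwa [e]
  free := by
    intro s hs v hv hvZ hsv v' hv'
    have h1 := h.free _ (mem_cj.1 hs) _ (mem_cj.1 hv) (fun e => hvZ (mem_cj.2 e)) (by
      have h2 := congrArg (fun t => g⁻¹ * t * g) hsv
      simpa [mul_assoc] using h2) _ (mem_cj.1 hv')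
    have h2 := congrArg (fun t => g * t * g⁻¹) h1
    simpa [mul_assoc] using h2
  full := by
    intro v hv hvZ z hz
    obtain ⟨s, hs, hsz⟩ := h.full _ (mem_cj.1 hv) (fun e => hvZ (mem_cj.2 e)) _ (mem_cj.1 hz)
    refine ⟨g * s * g⁻¹, conj_mem_cj hs, ?_⟩
    have h2 := congrArg (fun t => g * t * g⁻¹) hsz
    simpa [mul_assoc] using h2
  torus := by
    intro s hs t ht hs1 ht1
    rw [← cj_centralizer, mem_cj] at hs1 ht1
    obtain ⟨k, hk, hkZ, hk2⟩ := h.torus _ (mem_cj.1 hs) _ (mem_cj.1 ht) hs1 ht1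
    refine ⟨g * k * g⁻¹, conj_mem_cj hk, ?_, ?_⟩
    · rw [← cj_normalizer]; exact conj_mem_cj hkZ
    · rw [← cj_centralizer, mem_cj]
      have e : g⁻¹ * (g * k * g⁻¹ * s * (g * k * g⁻¹)⁻¹ * t⁻¹) * g =
        k * (g⁻¹ * s * g) * k⁻¹ * (g⁻¹ * t * g)⁻¹ := by group
      rwa [e]
  card := by rw [card_cj, card_cj]; exact h.card
  Wcomm := by
    rw [ws_cj, ws_cj_left]
    exact conj_le_centralizer h.Wcomm
  ti := by
    intro z hz hz1 x hx
    rw [← cj_normalizer, mem_cj]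
    refine h.ti _ (mem_cj.1 hz) (fun e => hz1 ?_) _ ?_
    · have h2 := congrArg (fun t => g * t * g⁻¹) e
      simpa [mul_assoc] using h2
    · have h2 := congrArg (fun t => g⁻¹ * t * g) hx
      simpa [mul_assoc] using h2
  NS := by
    rw [coe_smul, ← cj_normalizer, ← cj_normalizer]
    exact cj_le_cj.2 h.NS
  tor := by
    intro z hz hz1
    obtain ⟨k, hk, hkZ, hks⟩ := h.tor _ (mem_cj.1 hz) (fun e => hz1 (by
      have h2 := congrArg (fun t => g * t * g⁻¹) e
      simpa [mul_assoc] using h2))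
    refine ⟨g * k * g⁻¹, conj_mem_cj hk, ?_, fun s hs => ?_⟩
    · rw [← cj_normalizer]; exact conj_mem_cj hkZ
    · have h1 := hks _ (mem_cj.1 hs)
      have h2 := congrArg (fun t => g * t * g⁻¹) h1
      simpa [mul_assoc] using h2
  NB := by
    rw [← cj_normalizer, ← cj_normalizer]
    exact cj_le_cj.2 h.NB

/-- The same with another point on `V`. -/
theorem pt {p : G} (hp : p ∈ P) : PB (p • S) (cj p B) P V (cj p Z) := by
  have h1 := h.conj p
  have h2 : cj p P = P := conj_self hp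
  have h3 : cj p V = V := cj_eq_iff.2 (h.PN hp)
  rwa [h2, h3] at h1

theorem Vcomm {v w : G} (hv : v ∈ V) (hw : w ∈ V) : v * w = w * v := by
  have h1 := h.Vsq v hv
  have h2 := h.Vsq w hw
  have h3 := h.Vsq (v * w) (V.mul_mem hv hw)
  have hv' : v⁻¹ = v := inv_eq_of_mul_eq_one_left h1
  have hw' : w⁻¹ = w := inv_eq_of_mul_eq_one_left h2
  have h3' : (v * w)⁻¹ = v * w := inv_eq_of_mul_eq_one_left h3
  rw [mul_inv_rev, hv', hw'] at h3'
  exact h3'.symm

/-- `B ≤ C_G(Z)` -/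
theorem B_le : B ≤ centralizer (Z : Set G) := by
  intro s hs
  rw [mem_centralizer_iff]
  exact fun z hz => (h.cen z hz s hs).symm

theorem B_le_N : B ≤ normalizer (Z : Set G) := h.B_le.trans (centralizer_le_normalizer _)

theorem S_le_N : (S : Subgroup G) ≤ normalizer (Z : Set G) := h.SN

theorem B_eq : B = (S : Subgroup G) ⊓ centralizer (Z : Set G) := by
  apply le_antisymm (le_inf h.BS h.B_le)
  rintro s ⟨hs, hsc⟩
  exact h.mem_B s hs fun z hz => (mem_centralizer_iff.1 hsc z hz).symm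

/-- `N_G(S)` normalises `B`. -/
theorem NS_B : normalizer ((S : Subgroup G) : Set G) ≤ normalizer (B : Set G) := by
  intro n hn
  rw [← cj_eq_iff, h.B_eq, cj_inf, cj_centralizer, cj_eq_iff.2 hn, cj_eq_iff.2 (h.NS hn)]

theorem S_le_NB : (S : Subgroup G) ≤ normalizer (B : Set G) := Subgroup.le_normalizer.trans h.NS_B

/-- `N_G(S) ≤ N_G(V)` -/
theorem NS_V : normalizer ((S : Subgroup G) : Set G) ≤ normalizer (V : Set G) := h.NS_B.trans h.NB

/-- `N_G(B) ≤ N_G(Z)` -/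
theorem NB_Z : normalizer (B : Set G) ≤ normalizer (Z : Set G) := by
  have key : ∀ n ∈ normalizer (B : Set G), cj n Z ≤ Z := by
    intro n hn x hx
    have hx' := mem_cj.1 hx
    have hxB : x ∈ B := by
      rw [← cj_eq_iff.2 hn, mem_cj]
      exact h.VB (h.ZV hx')
    refine h.omega x hxB ?_ fun s hs => ?_
    · have h1 := congrArg (fun t => n * t * n⁻¹) (h.Vsq _ (h.ZV hx'))
      simpa [mul_assoc] using h1
    · have h1 : n⁻¹ * s * n ∈ B := by
        rw [← cj_eq_iff.2 hn, mem_cj] at hs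
        exact hs
      have h2 := congrArg (fun t => n * t * n⁻¹) (h.cen _ hx' _ h1)
      simpa [mul_assoc] using h2
  intro n hn
  rw [← cj_eq_iff]
  refine le_antisymm (key n hn) ?_
  rw [le_cj_iff]
  exact key n⁻¹ (inv_mem hn)

/-- `B` is determined by `S` among the groups `C_T(Z)`: a 2-subgroup of `H ⊓ C_G(Z)`, `S ≤ H ≤ N_G(Z)`, lies in a
conjugate of `B`. -/
theorem exists_le_conjB {H D : Subgroup G} (hS : (S : Subgroup G) ≤ H) (hHZ : H ≤ normalizer (Z : Set G))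
    (hD : IsPGroup 2 D) (hDH : D ≤ H) (hDZ : D ≤ centralizer (Z : Set G)) : ∃ m ∈ H, D ≤ cj m B := by
  obtain ⟨m, hm, hmD⟩ := exists_le_conj hS hD hDH
  refine ⟨m, hm, ?_⟩
  rw [h.B_eq, cj_inf, cj_centralizer, cj_eq_iff.2 (hHZ hm)]
  exact le_inf hmD hDZ

/-- **(T2)** points are TI. -/
theorem pt_eq {g z : G} (hz : z ∈ Z) (hz' : z ∈ cj g Z) (hz1 : z ≠ 1) : cj g Z = Z := by
  obtain ⟨k, hk, hkZ, hks⟩ := h.tor z hz hz1
  -- `T = S^(k⁻¹)` centralises `z`
  have hT : ((k⁻¹ • S : Sylow 2 G) : Subgroup G) ≤ normalizer ((cj g Z : Subgroup G) : Set G) := by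
    intro s hs
    refine (h.conj g).ti z hz' hz1 s ?_
    have h1 := hks _ (mem_cj.1 hs)
    have h2 := congrArg (fun t => k⁻¹ * t * k) h1
    simpa [mul_assoc] using h2
  have h2 : ((g • S : Sylow 2 G) : Subgroup G) ≤ normalizer ((cj g Z : Subgroup G) : Set G) := (h.conj g).SN
  obtain ⟨m, hm, hmS⟩ := exists_conj h2 hT
  -- `n = k m g` normalises `S`
  have hn : k * m * g ∈ normalizer ((S : Subgroup G) : Set G) := by
    rw [← cj_eq_iff]
    have e1 : cj m (cj g (S : Subgroup G)) = cj k⁻¹ (S : Subgroup G) := hmS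
    rw [mul_assoc, ← cj_cj, ← cj_cj, e1, cj_cj, mul_inv_cancel, cj_one]
  have h3 := cj_eq_iff.2 (h.NS hn)
  rw [mul_assoc, ← cj_cj, ← cj_cj, cj_eq_iff.2 hm] at h3
  have h4 : cj g Z = cj k⁻¹ Z := by
    rw [← cj_inj (g := k), h3, cj_cj, mul_inv_cancel, cj_one]
  rw [h4, cj_eq_iff]
  exact inv_mem hkZ

/-- **(T2)**, for two points. -/
theorem pts_eq {X Y : Subgroup G} (hX : IsCj Z X) (hY : IsCj Z Y) {z : G} (hz : z ∈ X) (hz' : z ∈ Y) (hz1 : z ≠ 1) :
    X = Y := by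
  obtain ⟨x, rfl⟩ := hX
  obtain ⟨y, rfl⟩ := hY
  have h1 := (h.conj x).pt_eq (g := y * x⁻¹) hz (by rw [cj_cj, inv_mul_cancel_right]; exact hz') hz1
  rw [cj_cj, inv_mul_cancel_right] at h1
  exact h1.symm

theorem pts_inf {X Y : Subgroup G} (hX : IsCj Z X) (hY : IsCj Z Y) (hne : X ≠ Y) : X ⊓ Y = ⊥ := by
  rw [eq_bot_iff]
  intro z hz
  rw [mem_bot]
  by_contra h1
  exact hne (h.pts_eq hX hY hz.1 hz.2 h1)

/-- TI: an element commuting with a nontrivial element of a point normalises the point. -/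
theorem norm_of_comm {X : Subgroup G} (hX : IsCj Z X) {g x : G} (hx : x ∈ X) (hx1 : x ≠ 1) (hgx : g * x = x * g) :
    g ∈ normalizer (X : Set G) := by
  obtain ⟨y, rfl⟩ := hX
  exact (h.conj y).ti x hx hx1 g hgx

/-- the points on `V` are the conjugates of `Z` under `P` -/
theorem exists_pt {X : Subgroup G} (hX : IsCj Z X) (hXV : X ≤ V) : ∃ p ∈ P, X = cj p Z := by
  obtain ⟨g, rfl⟩ := hX
  obtain ⟨z, hz, hz1⟩ : ∃ z ∈ cj g Z, z ≠ 1 := by
    by_contra hcon
    push Not at hcon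
    exact (h.conj g).Zne ((eq_bot_iff_forall _).2 hcon)
  obtain ⟨p, hp, hzp⟩ := h.part z (hXV hz) hz1
  exact ⟨p, hp, h.pts_eq ⟨g, rfl⟩ ⟨p, rfl⟩ hz hzp hz1⟩

theorem pt_le {p : G} (hp : p ∈ P) : cj p Z ≤ V := (h.pt hp).ZV

/-- every line is contained in the `ws` of its points -/
theorem V_le_ws {X : Subgroup G} (hX : X ≤ V) : V ≤ ws V X := le_ws ⟨1, (cj_one V).symm⟩ hX

theorem Z_le_ws : Z ≤ ws V Z := h.ZV.trans (h.V_le_ws h.ZV)

/-- `ws V X` is abelian for every point `X`. -/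
theorem ws_comm {X : Subgroup G} (hX : IsCj Z X) : ws V X ≤ centralizer ((ws V X : Subgroup G) : Set G) := by
  obtain ⟨g, rfl⟩ := hX
  have h1 := (h.conj g).Wcomm
  rwa [ws_cj_left] at h1

theorem ws_sq : ∀ w ∈ ws V Z, w * w = 1 := by
  let E : Subgroup G :=
    { carrier := {x | x ∈ ws V Z ∧ x * x = 1}
      one_mem' := ⟨one_mem _, one_mul 1⟩
      mul_mem' := by
        rintro x y ⟨hx, hx2⟩ ⟨hy, hy2⟩
        refine ⟨mul_mem hx hy, ?_⟩
        have h1 : y * x = x * y := mem_centralizer_iff.1 (h.Wcomm hx) y hy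
        calc x * y * (x * y) = x * (y * x) * y := by group
          _ = x * (x * y) * y := by rw [h1]
          _ = x * x * (y * y) := by group
          _ = 1 := by rw [hx2, hy2, one_mul]
      inv_mem' := by
        rintro x ⟨hx, hx2⟩
        refine ⟨inv_mem hx, ?_⟩
        rw [← mul_inv_rev, hx2, inv_one] }
  have h1 : ws V Z ≤ E := by
    refine ws_le fun L hL hZL v hv => ⟨le_ws hL hZL hv, ?_⟩
    obtain ⟨g, rfl⟩ := hL
    exact (h.conj g).Vsq v hv
  exact fun w hw => (h1 hw).2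

/-- `ws V X` is elementary abelian. -/
theorem ws_sq' {X : Subgroup G} (hX : IsCj Z X) : ∀ w ∈ ws V X, w * w = 1 := by
  obtain ⟨g, rfl⟩ := hX
  have h1 := (h.conj g).ws_sq
  rwa [ws_cj_left] at h1

/-- `ws V Z ≤ B` -/
theorem ws_le_B : ws V Z ≤ B := by
  have : Fact (Nat.Prime 2) := ⟨Nat.prime_two⟩
  have hW : IsPGroup 2 (ws V Z) := fun w => ⟨1, by
    rw [pow_one, pow_two]; exact Subtype.ext (h.ws_sq w w.2)⟩
  have hSN : (S : Subgroup G) ≤ normalizer ((ws V Z : Subgroup G) : Set G) := h.S_le_N.trans (normalizer_le_ws V Z)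
  have h1 : IsPGroup 2 ((S : Subgroup G) ⊔ ws V Z : Subgroup G) := S.isPGroup'.to_sup_of_normal_right' hW hSN
  have h2 := S.is_maximal' h1 le_sup_left
  have h3 : ws V Z ≤ (S : Subgroup G) := by
    rw [← h2]
    exact le_sup_right
  rw [h.B_eq]
  exact le_inf h3 (h.Wcomm.trans (centralizer_le h.Z_le_ws))

theorem ws_le_S : ws V Z ≤ (S : Subgroup G) := h.ws_le_B.trans h.BS

theorem isPGroup_of_le {A : Subgroup G} (hA : A ≤ B) : IsPGroup 2 A := S.isPGroup'.to_le (hA.trans h.BS)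

theorem one_lt_card : 1 < Nat.card Z := by
  have := (Subgroup.nontrivial_iff_ne_bot Z).2 h.Zne
  exact Finite.one_lt_card

theorem isCj_self : IsCj Z Z := ⟨1, (cj_one Z).symm⟩

theorem card_pt {X : Subgroup G} (hX : IsCj Z X) : Nat.card X = Nat.card Z := by
  obtain ⟨g, rfl⟩ := hX
  exact card_cj g Z

theorem pt_ne_bot {X : Subgroup G} (hX : IsCj Z X) : ∃ x ∈ X, x ≠ 1 := by
  obtain ⟨g, rfl⟩ := hX
  by_contra hcon
  push Not at hcon
  exact (h.conj g).Zne ((eq_bot_iff_forall _).2 hcon)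

theorem exists_out : ∃ v ∈ V, v ∉ Z := by
  by_contra hcon
  push Not at hcon
  have h1 := Subgroup.card_le_of_le hcon
  have h2 := h.one_lt_card
  rw [h.card] at h1
  nlinarith

/-- every nontrivial element of `V` is in a point on `V` -/
theorem exists_point {v : G} (hv : v ∈ V) (hv1 : v ≠ 1) : ∃ X, IsCj Z X ∧ X ≤ V ∧ v ∈ X := by
  obtain ⟨p, hp, hvp⟩ := h.part v hv hv1
  exact ⟨cj p Z, ⟨p, rfl⟩, h.pt_le hp, hvp⟩

/-- `V = X Y` for two points on `V` -/
theorem exists_mul {X Y : Subgroup G} (hX : IsCj Z X) (hXV : X ≤ V) (hY : IsCj Z Y) (hYV : Y ≤ V) (hne : X ≠ Y)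
    {v : G} (hv : v ∈ V) : ∃ x ∈ X, ∃ y ∈ Y, v = x * y := by
  have hn : Y ≤ normalizer (X : Set G) := by
    refine le_trans ?_ (centralizer_le_normalizer _)
    intro y hy
    rw [mem_centralizer_iff]
    exact fun x hx => h.Vcomm (hXV hx) (hYV hy)
  have h1 := card_sup_mul hn
  rw [h.pts_inf hX hY hne, card_bot, mul_one, h.card_pt hX, h.card_pt hY, ← h.card] at h1
  have h2 : X ⊔ Y = V := Subgroup.eq_of_le_of_card_ge (sup_le hXV hYV) h1.ge
  rw [← h2, ← SetLike.mem_coe, coe_mul_of_right_le_normalizer_left X Y hn] at hv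
  obtain ⟨x, hx, y, hy, rfl⟩ := hv
  exact ⟨x, hx, y, hy, rfl⟩

/-- a third point -/
theorem exists_third {X Y : Subgroup G} (hX : IsCj Z X) (hXV : X ≤ V) (hY : IsCj Z Y) (hYV : Y ≤ V) (hne : X ≠ Y) :
    ∃ T, IsCj Z T ∧ T ≤ V ∧ T ≠ X ∧ T ≠ Y := by
  obtain ⟨x, hx, hx1⟩ := h.pt_ne_bot hX
  obtain ⟨y, hy, hy1⟩ := h.pt_ne_bot hY
  have h1 : x * y ∉ X := fun e => hne (h.pts_eq hX hY ((X.mul_mem_cancel_left hx).1 e) hy hy1)
  have h2 : x * y ∉ Y := fun e => hne (h.pts_eq hX hY hx ((Y.mul_mem_cancel_right hy).1 e) hx1)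
  obtain ⟨T, hT, hTV, hxyT⟩ := h.exists_point (V.mul_mem (hXV hx) (hYV hy))
    (fun e => h1 (by rw [e]; exact one_mem _))
  exact ⟨T, hT, hTV, fun e => h1 (e ▸ hxyT), fun e => h2 (e ▸ hxyT)⟩

/-- a second point -/
theorem exists_second {X : Subgroup G} (hX : IsCj Z X) (hXV : X ≤ V) : ∃ T, IsCj Z T ∧ T ≤ V ∧ T ≠ X := by
  obtain ⟨v, hv, hvX⟩ : ∃ v ∈ V, v ∉ X := by
    by_contra hcon
    push Not at hcon
    have h1 := Subgroup.card_le_of_le hcon
    have h2 := h.one_lt_card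
    rw [h.card, h.card_pt hX] at h1
    nlinarith
  obtain ⟨T, hT, hTV, hvT⟩ := h.exists_point hv (fun e => hvX (by rw [e]; exact one_mem _))
  exact ⟨T, hT, hTV, fun e => hvX (e ▸ hvT)⟩

/-- the flag `(X, V)` -/
theorem exists_flag {X : Subgroup G} (hX : IsCj Z X) (hXV : X ≤ V) :
    ∃ (T : Sylow 2 G) (C : Subgroup G), PB T C P V X := by
  obtain ⟨p, hp, rfl⟩ := h.exists_pt hX hXV
  exact ⟨p • S, cj p B, h.pt hp⟩

/-! ### (T3') -/

/-- A 2-element which centralises `Z`, normalises `V` and commutes with some `v ∈ V - Z`, centralises `V`. -/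
theorem two_line {g v : G} (hg : TwoEl g) (hgZ : g ∈ centralizer (Z : Set G)) (hgV : g ∈ normalizer (V : Set G))
    (hv : v ∈ V) (hvZ : v ∉ Z) (hgv : g * v = v * g) : g ∈ centralizer (V : Set G) := by
  have h1 : (S : Subgroup G) ≤ normalizer (V : Set G) ⊓ normalizer (Z : Set G) := le_inf (h.SP.trans h.PN) h.SN
  obtain ⟨m, hm, hmB⟩ := h.exists_le_conjB h1 inf_le_right hg.isPGroup
    (zpowers_le.2 ⟨hgV, centralizer_le_normalizer _ hgZ⟩) (zpowers_le.2 hgZ)
  have h2 := h.conj m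
  rw [cj_eq_iff.2 hm.1, cj_eq_iff.2 hm.2] at h2
  rw [mem_centralizer_iff]
  exact fun v' hv' => (h2.free g (hmB (mem_zpowers g)) v hv hvZ hgv v' hv').symm

/-- The same for any flag `X ≤ V`. -/
theorem two_line' {X : Subgroup G} (hX : IsCj Z X) (hXV : X ≤ V) {g v : G} (hg : TwoEl g)
    (hgX : g ∈ centralizer (X : Set G)) (hgV : g ∈ normalizer (V : Set G)) (hv : v ∈ V) (hvX : v ∉ X)
    (hgv : g * v = v * g) : g ∈ centralizer (V : Set G) := by
  obtain ⟨T, C, h'⟩ := h.exists_flag hX hXV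
  exact h'.two_line hg hgX hgV hv hvX hgv

/-- **(T3')** for two points `X ≠ Y` on `V`: a 2-element which centralises `X` and commutes with `1 ≠ y ∈ Y`, centralises `V`. -/
theorem two_col {X Y : Subgroup G} (hX : IsCj Z X) (hXV : X ≤ V) (hY : IsCj Z Y) (hYV : Y ≤ V) (hne : X ≠ Y) {g y : G}
    (hg : TwoEl g) (hgX : g ∈ centralizer (X : Set G)) (hy : y ∈ Y) (hy1 : y ≠ 1) (hgy : g * y = y * g) :
    g ∈ centralizer (V : Set G) := by
  have hgY := h.norm_of_comm hY hy hy1 hgy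
  have hgV : g ∈ normalizer (V : Set G) := by
    have key : ∀ g : G, g ∈ centralizer (X : Set G) → g ∈ normalizer (Y : Set G) → cj g V ≤ V := by
      intro g hgX hgY
      rw [cj_le_iff]
      intro v hv
      obtain ⟨x, hx, y, hy, rfl⟩ := h.exists_mul hX hXV hY hYV hne hv
      refine mul_mem ?_ ?_
      · rw [mem_cj, inv_inv]
        have := mem_centralizer_iff.1 hgX x hx
        rw [← this, mul_inv_cancel_right]
        exact hXV hx
      · rw [mem_cj, inv_inv]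
        exact hYV ((mem_normalizer_iff.1 hgY y).1 hy)
    rw [← cj_eq_iff]
    refine le_antisymm (key g hgX hgY) ?_
    rw [le_cj_iff]
    exact key g⁻¹ (inv_mem hgX) (inv_mem hgY)
  refine h.two_line' hX hXV hg hgX hgV (hYV hy) (fun e => hne (h.pts_eq hX hY e hy hy1)) hgy

/-- **(T3')** for any line `L`. -/
theorem two_col' {L X Y : Subgroup G} (hL : IsCj V L) (hX : IsCj Z X) (hXL : X ≤ L) (hY : IsCj Z Y) (hYL : Y ≤ L)
    (hne : X ≠ Y) {g y : G} (hg : TwoEl g) (hgX : g ∈ centralizer (X : Set G)) (hy : y ∈ Y) (hy1 : y ≠ 1)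
    (hgy : g * y = y * g) : g ∈ centralizer (L : Set G) := by
  obtain ⟨a, rfl⟩ := hL
  exact (h.conj a).two_col (isCj_cj.2 hX) hXL (isCj_cj.2 hY) hYL hne hg hgX hy hy1 hgy

end PB

end Cfsg.Agent.Omega.NO3S.PT
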