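import Cfsg.Agent.Omega.NO3S.PB.FTwo
import Cfsg.Agent.Omega.NO3S.PtGeom

/-!
# NO-3S, natural lines, the `(R, B)`-frame: the instance of `NOThree.Pts.Geom`

Copy of `PtGeom.lean` (helper471) over `PB S B P V Z`.
-/

set_option autoImplicit false
set_option linter.unusedSectionVars false
set_option linter.unusedVariables false

namespace Cfsg.Agent.Omega.NO3S.PB.Geom

open Subgroup Cfsg.Agent.Omega.NoFF.Basic Cfsg.Agent.Omega.NO3S.PT Cfsg.Agent.Omega.NOThree.Pts
open Cfsg.Agent.Omega.NO3S.PtGeom (Pt inc hf_conj smul_base_eq)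
open scoped Pointwise

variable {G : Type*} [Group G]

section

variable [Finite G] {S : Sylow 2 G} {B P V Z : Subgroup G}

theorem omB_conj (hO : OmB B V) (g : G) : OmB (cj g B) (cj g V) := by
  intro y hy hyV hyy hc
  rw [mem_cj] at hy
  rw [← cj_centralizer, mem_cj] at hyV
  rw [mem_cj]
  refine hO _ hy hyV ?_ fun s hs hsV => ?_
  · have := congrArg (fun t => g⁻¹ * t * g) hyy
    simpa [mul_assoc] using this
  · have h1 := hc (g * s * g⁻¹) (conj_mem_cj hs)
      (by rw [← cj_centralizer]; exact conj_mem_cj hsV)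
    have h2 := congrArg (fun t => g⁻¹ * t * g) h1
    simpa [mul_assoc] using h2

end

section

variable [Finite G] {S : Sylow 2 G} {B P V Z : Subgroup G} (h : PB S B P V Z)
include h

/-- every flag is conjugate to `(Z, V)` -/
theorem exists_conj_flag {X L : Subgroup G} (hX : IsCj Z X) (hL : IsCj V L) (hXL : X ≤ L) :
    ∃ g : G, X = cj g Z ∧ L = cj g V := by
  obtain ⟨g, rfl⟩ := hL
  obtain ⟨p, hp, hXp⟩ := h.exists_pt (hX.cj g⁻¹) (by rw [cj_le_iff, inv_inv]; exact hXL)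
  refine ⟨g * p, ?_, ?_⟩
  · rw [← cj_cj, ← hXp, cj_cj, mul_inv_cancel, cj_one]
  · rw [← cj_cj, cj_eq_iff.2 (h.PN hp)]

theorem ws_sq_pt {X : Subgroup G} (hX : IsCj Z X) : ∀ a ∈ ws V X, a * a = 1 := by
  obtain ⟨g, rfl⟩ := hX
  have := (h.conj g).ws_sq
  rwa [ws_cj_left] at this

/-- `(F1)` -/
theorem inf_eq (hf : ¬ kx V Z ≤ centralizer (V : Set G)) {X Y L : Subgroup G} (hL : IsCj V L)
    (hX : IsCj Z X) (hXL : X ≤ L) (hY : IsCj Z Y) (hYL : Y ≤ L) (hne : X ≠ Y) :
    ws V X ⊓ ws V Y = IV L X := by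
  obtain ⟨g, rfl, rfl⟩ := exists_conj_flag h hX hL hXL
  have h1 := (h.conj g).IV_eq (hf_conj hf g) (X := cj g Z) (Y := Y) ⟨1, (cj_one _).symm⟩ hXL
    (isCj_cj.2 hY) hYL hne
  rwa [ws_cj_left, ws_cj_left] at h1

theorem IV_conj (hf : ¬ kx V Z ≤ centralizer (V : Set G)) (g : G) : IV (cj g V) (cj g Z) = cj g (IV V Z) := by
  obtain ⟨Y, hY, hYV, hne⟩ := h.exists_second h.isCj_self h.ZV
  rw [← h.IV_eq hf h.isCj_self h.ZV hY hYV hne.symm, cj_inf, ← ws_cj, ← ws_cj]
  exact (inf_eq h hf (L := cj g V) ⟨g, rfl⟩ (h.isCj_self.cj g) (cj_le_cj.2 h.ZV) (hY.cj g) (cj_le_cj.2 hYV)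
    (fun e => hne (cj_inj.1 e).symm)).symm

/-- **The instance.** -/
theorem geom (hf : ¬ kx V Z ≤ centralizer (V : Set G)) (hO : OmB B V) :
    Geom (X := Pt Z) (L := Pt V) inc (fun x => x.sg) (fun x => ws V x.sg) (fun l => l.sg) (Nat.card Z)
      ((IV V Z).relIndex (ws V Z)) where
  inc_smul g x l hxl := cj_le_cj.2 hxl
  R_smul g x a ha := conj_mem_cj ha
  W_smul g x a ha := by
    rw [Pt.sg_smul, ws_cj]
    exact conj_mem_cj ha
  V_smul g l a ha := conj_mem_cj ha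
  two_le := h.one_lt_card
  card x := h.card_pt x.isCj
  ti x y a ha ha' h1 := Pt.ext (h.pts_eq x.isCj y.isCj ha ha' h1)
  R_le x l hxl := hxl
  V_le x l hxl := le_ws l.isCj hxl
  W_le x A hA := ws_le fun L hL hXL => hA (Pt.mk hL) hXL
  cover l a ha := by
    obtain ⟨g, hg⟩ := l.exists_smul
    have hl : l.sg = cj g V := by rw [hg]; rfl
    by_cases ha1 : a = 1
    · refine ⟨Pt.mk (h.isCj_self.cj g), ?_, ?_⟩
      · show cj g Z ≤ l.sg
        rw [hl]
        exact cj_le_cj.2 h.ZV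
      · rw [ha1]; exact one_mem _
    · rw [hl] at ha
      obtain ⟨X, hX, hXV, haX⟩ := (h.conj g).exists_point ha ha1
      exact ⟨Pt.mk (isCj_cj.1 hX), by rw [← hl] at hXV; exact hXV, haX⟩
  exists_line x := by
    obtain ⟨g, hg⟩ := x.exists_smul
    refine ⟨Pt.mk ⟨g, rfl⟩, ?_⟩
    show x.sg ≤ cj g V
    rw [hg]
    exact cj_le_cj.2 h.ZV
  comm x a ha b hb := (mem_centralizer_iff.1 (h.ws_comm x.isCj ha) b hb).symm
  sq x := ws_sq_pt h x.isCj
  F1 x y z l hx hy hz hxy hxz := by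
    rw [inf_eq h hf l.isCj x.isCj hx y.isCj hy (fun e => hxy (Pt.ext e)),
      inf_eq h hf l.isCj x.isCj hx z.isCj hz (fun e => hxz (Pt.ext e))]
  index x y l hx hy hxy := by
    rw [inf_eq h hf l.isCj x.isCj hx y.isCj hy (fun e => hxy (Pt.ext e))]
    obtain ⟨g, h1, h2⟩ := exists_conj_flag h x.isCj l.isCj hx
    rw [h1, h2, IV_conj h hf, ws_cj]
    exact relIndex_pointwise_smul _ _ _
  F2 x y z l hx hy hz hxy u hu hu' huV := by
    obtain ⟨g, h1, h2⟩ := exists_conj_flag h x.isCj l.isCj hx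
    have hI : u ∈ IV (cj g V) (cj g Z) := by
      rw [← h1, ← h2, ← inf_eq h hf l.isCj x.isCj hx y.isCj hy (fun e => hxy (Pt.ext e))]
      exact ⟨hu, hu'⟩
    have hx' : x.sg ≤ cj g V := by rw [← h2]; exact hx
    have hz' : z.sg ≤ cj g V := by rw [← h2]; exact hz
    obtain ⟨c, hc, -, hcu, hcx, -⟩ := (h.conj g).F2_swap (hf_conj hf g) (omB_conj hO g) hI (by rwa [← h2])
      (isCj_cj.2 x.isCj) hx' (isCj_cj.2 z.isCj) hz'
    refine ⟨c, hcu, Pt.ext ?_, Pt.ext hcx⟩
    show cj c l.sg = l.sg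
    rw [h2, cj_eq_iff]
    exact (h.conj g).XV_le_N hc

/-! ### Critical pairs -/

open Cfsg.Agent.Omega.NoFF.Lines (W_le line_le)

/-- the product of the lines on `Z` -/
theorem W_eq (hV : NoFF.Basic.V Z P = V) : NoFF.Lines.W Z (normalizer (Z : Set G)) {P} = ws V Z := by
  apply le_antisymm
  · refine W_le fun Q hQ c hc => ?_
    rw [Set.mem_singleton_iff.1 hQ, hV]
    refine le_ws ⟨c, rfl⟩ ?_
    have h1 : cj c Z = Z := cj_eq_iff.2 hc
    nth_rewrite 1 [← h1]
    exact cj_le_cj.2 h.ZV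
  · refine ws_le fun L hL hZL => ?_
    obtain ⟨g, h1, rfl⟩ := exists_conj_flag h h.isCj_self hL hZL
    have h2 := line_le (Z := Z) (C := normalizer (Z : Set G)) (F := {P}) (Set.mem_singleton P)
      (c := g) (cj_eq_iff.1 h1.symm)
    rwa [hV] at h2

theorem walk_of_path {k : ℕ} {a b : G} (hp : NoFF.Lines.Path (normalizer (Z : Set G)) {P} k a b) :
    Walk (inc (Z := Z) (V := V)) k (a • Pt.base Z) (b • Pt.base Z) := by
  induction hp with
  | @zero g c hc =>
    have h1 : (g * c) • Pt.base Z = g • Pt.base Z := by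
      rw [smul_base_eq, mul_inv_rev, inv_mul_cancel_right]
      exact inv_mem hc
    rw [h1]
    exact .zero _
  | @step k g x p c Q _ hQ hp hc ih =>
    rw [Set.mem_singleton_iff.1 hQ] at hp
    have h1 : (x * p * c) • Pt.base Z = (x * p) • Pt.base Z := by
      rw [smul_base_eq, mul_inv_rev, inv_mul_cancel_right]
      exact inv_mem hc
    rw [h1]
    refine ih.step (l := x • Pt.base V) ?_ ?_
    · show cj x Z ≤ cj x V
      exact cj_le_cj.2 h.ZV
    · show cj (x * p) Z ≤ cj x V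
      rw [← cj_cj, cj_le_cj]
      exact h.pt_le hp

theorem path_of_walk {k : ℕ} {x y : Pt Z} (hw : Walk (inc (Z := Z) (V := V)) k x y) :
    ∀ a b : G, x = a • Pt.base Z → y = b • Pt.base Z → NoFF.Lines.Path (normalizer (Z : Set G)) {P} k a b := by
  induction hw with
  | zero x =>
    intro a b ha hb
    have h1 := smul_base_eq.1 (ha.symm.trans hb)
    have h2 := NoFF.Lines.Path.zero (F := {P}) a h1
    rwa [mul_inv_cancel_left] at h2
  | @step k x y z l _ hy hz ih =>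
    intro a b ha hb
    obtain ⟨g, h1, h2⟩ := exists_conj_flag h y.isCj l.isCj hy
    have h3 := ih a g ha (Pt.ext h1)
    have hz' : z.sg ≤ cj g V := by rw [← h2]; exact hz
    obtain ⟨p, hp, hzp⟩ := h.exists_pt (z.isCj.cj g⁻¹) (by rw [cj_le_iff, inv_inv]; exact hz')
    have h4 : z = (g * p) • Pt.base Z := by
      refine Pt.ext ?_
      show z.sg = cj (g * p) Z
      rw [← cj_cj, ← hzp, cj_cj, mul_inv_cancel, cj_one]
    have h5 := smul_base_eq.1 (h4.symm.trans hb)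
    have h6 := h3.step (Set.mem_singleton P) hp h5
    rwa [mul_inv_cancel_left] at h6

theorem com_iff (hV : NoFF.Basic.V Z P = V) {a b : G} :
    NoFF.Lines.Com Z (normalizer (Z : Set G)) {P} a b ↔
      Com (fun x : Pt Z => ws V x.sg) (a • Pt.base Z) (b • Pt.base Z) := by
  unfold NoFF.Lines.Com
  rw [W_eq h hV]
  have h1 : ∀ g : G, (MulAut.conj g • ws V Z : Subgroup G) = ws V (g • Pt.base Z).sg := fun g => by
    rw [Pt.sg_smul, ws_cj]; rfl
  rw [h1, h1]
  constructor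
  · intro h2 u hu v hv
    exact (mem_centralizer_iff.1 (h2 hu) v hv).symm
  · intro h2 u hu
    exact mem_centralizer_iff.2 fun v hv => (h2 u hu v hv).symm

/-- **Critical pairs.** -/
theorem crit (hV : NoFF.Basic.V Z P = V) {n : ℕ} {a b : G}
    (hc : NoFF.Lines.Crit Z (normalizer (Z : Set G)) {P} n a b) :
    Crit (inc (Z := Z) (V := V)) (fun x : Pt Z => ws V x.sg) n (a • Pt.base Z) (b • Pt.base Z) where
  walk := walk_of_path h hc.path
  ne := fun h1 => hc.ne ((com_iff h hV).2 h1)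
  min := by
    intro k hk x y hw
    obtain ⟨a', rfl⟩ := x.exists_smul
    obtain ⟨b', rfl⟩ := y.exists_smul
    exact (com_iff h hV).1 (hc.min k hk _ _ (path_of_walk h hw a' b' rfl rfl))

end

end Cfsg.Agent.Omega.NO3S.PB.Geom
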