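import Cfsg.Agent.Omega.NO3S.PB.FTwo

/-!
# NO-3S, natural lines, the `(R, B)`-frame: (LIN) (copy of `Lin.lean`)

* `PB.lin'` : `g ∈ C_G(Z)` centralises one `v ∈ V - Z` modulo `Z`: then `s g ∈ C_G(V)` for some `s ∈ B`;
* `PB.lin` : so `[g, V] ≤ Z`.
-/

set_option autoImplicit false

namespace Cfsg.Agent.Omega.NO3S.PT

open Subgroup Cfsg.Agent.Omega.NoFF.Basic
open scoped Pointwise

variable {G : Type*} [Group G]

namespace PB

variable [Finite G] {S : Sylow 2 G} {B P V Z : Subgroup G} (h : PB S B P V Z)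
include h

/-- an element centralising `Z` and one element of `V - Z` centralises `V` -/
theorem mem_centralizer_of_fix {k v : G} (hk : ∀ z ∈ Z, k * z = z * k) (hv : v ∈ V) (hvZ : v ∉ Z)
    (hkv : k * v = v * k) : k ∈ centralizer (V : Set G) := by
  -- `k` normalises every point `X ≠ Z` of `V`
  have hpt : ∀ X, IsCj Z X → X ≤ V → X ≠ Z → k ∈ normalizer (X : Set G) := by
    intro X hX hXV hXZ
    obtain ⟨z, hz, x, hx, hzx⟩ := h.exists_mul h.isCj_self h.ZV hX hXV hXZ.symm hv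
    have hx1 : x ≠ 1 := by
      rintro rfl
      exact hvZ (by rw [hzx, mul_one]; exact hz)
    obtain ⟨g, rfl⟩ := hX
    refine (h.conj g).ti x hx hx1 k ?_
    have e : x = z⁻¹ * v := by rw [hzx]; group
    rw [e, ← mul_assoc, hk _ (Z.inv_mem hz), mul_assoc, hkv, mul_assoc]
  have key : ∀ u ∈ V, u ∉ Z → k * u = u * k := by
    intro u hu huZ
    have hu1 : u ≠ 1 := fun e => huZ (by rw [e]; exact one_mem _)
    obtain ⟨X, hX, hXV, huX⟩ := h.exists_point hu hu1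
    have hXZ : X ≠ Z := fun e => huZ (e ▸ huX)
    obtain ⟨z, hz, hz1⟩ := h.pt_ne_bot h.isCj_self
    have hzu : z * u ∉ Z := fun e => huZ ((Z.mul_mem_cancel_left hz).1 e)
    have hzu1 : z * u ≠ 1 := fun e => hzu (by rw [e]; exact one_mem _)
    obtain ⟨Y, hY, hYV, huY⟩ := h.exists_point (V.mul_mem (h.ZV hz) hu) hzu1
    have hYZ : Y ≠ Z := fun e => hzu (e ▸ huY)
    have hYX : Y ≠ X := by
      rintro rfl
      have hzY : z ∈ Y := (Y.mul_mem_cancel_right huX).1 huY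
      exact hYZ (h.pts_eq hY h.isCj_self hzY hz hz1)
    have h1 : k * u * k⁻¹ * u⁻¹ ∈ X :=
      X.mul_mem ((mem_normalizer_iff.1 (hpt X hX hXV hXZ) u).1 huX) (X.inv_mem huX)
    have h2 : k * (z * u) * k⁻¹ * (z * u)⁻¹ ∈ Y :=
      Y.mul_mem ((mem_normalizer_iff.1 (hpt Y hY hYV hYZ) _).1 huY) (Y.inv_mem huY)
    have h3 : k * (z * u) * k⁻¹ * (z * u)⁻¹ = k * u * k⁻¹ * u⁻¹ := by
      have hkuV : k * u * k⁻¹ * u⁻¹ ∈ V := hXV h1
      calc k * (z * u) * k⁻¹ * (z * u)⁻¹ = (k * z) * u * k⁻¹ * (u⁻¹ * z⁻¹) := by group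
        _ = z * (k * u * k⁻¹ * u⁻¹) * z⁻¹ := by rw [hk z hz]; group
        _ = k * u * k⁻¹ * u⁻¹ := by rw [h.Vcomm (h.ZV hz) hkuV, mul_inv_cancel_right]
    rw [h3] at h2
    have h4 : k * u * k⁻¹ * u⁻¹ ∈ Y ⊓ X := ⟨h2, h1⟩
    rw [h.pts_inf hY hX hYX, mem_bot, mul_inv_eq_one, mul_inv_eq_iff_eq_mul] at h4
    exact h4
  rw [mem_centralizer_iff]
  intro u hu
  by_cases huZ : u ∈ Z
  · exact (hk u huZ).symm
  · exact (key u hu huZ).symm

/-- **(LIN)** -/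
theorem lin' {g v : G} (hg : ∀ z ∈ Z, g * z = z * g) (hv : v ∈ V) (hvZ : v ∉ Z)
    (hgv : g * v * g⁻¹ * v⁻¹ ∈ Z) : ∃ s ∈ B, s * g ∈ centralizer (V : Set G) := by
  set z := g * v * g⁻¹ * v⁻¹ with hz
  obtain ⟨s, hs, hsv⟩ := h.full v hv hvZ z⁻¹ (Z.inv_mem hgv)
  refine ⟨s, hs, h.mem_centralizer_of_fix (v := v) ?_ hv hvZ ?_⟩
  · intro w hw
    rw [mul_assoc, hg w hw, ← mul_assoc, h.cen w hw s hs, mul_assoc]
  · have e1 : g * v * g⁻¹ = z * v := by rw [hz]; group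
    have e2 : s * v * s⁻¹ = z⁻¹ * v := by rw [← hsv]; group
    have e3 : s * g * v * (s * g)⁻¹ = v := by
      calc s * g * v * (s * g)⁻¹ = s * (g * v * g⁻¹) * s⁻¹ := by group
        _ = (s * z) * v * s⁻¹ := by rw [e1]; group
        _ = z * (s * v * s⁻¹) := by rw [h.cen z hgv s hs]; group
        _ = v := by rw [e2]; group
    rwa [mul_inv_eq_iff_eq_mul] at e3

/-- **(LIN)** -/
theorem lin {g v : G} (hg : ∀ z ∈ Z, g * z = z * g) (hv : v ∈ V) (hvZ : v ∉ Z)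
    (hgv : g * v * g⁻¹ * v⁻¹ ∈ Z) : ∀ u ∈ V, g * u * g⁻¹ * u⁻¹ ∈ Z := by
  obtain ⟨s, hs, hc⟩ := h.lin' hg hv hvZ hgv
  intro u hu
  have h1 : s * g * u * (s * g)⁻¹ = u := by
    rw [mul_inv_eq_iff_eq_mul]; exact (mem_centralizer_iff.1 hc u hu).symm
  have h2 : g * u * g⁻¹ = s⁻¹ * u * s := by
    calc g * u * g⁻¹ = s⁻¹ * (s * g * u * (s * g)⁻¹) * s := by group
      _ = s⁻¹ * u * s := by rw [h1]
  rw [h2]
  have h3 := h.act s⁻¹ (inv_mem hs) u hu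
  rwa [inv_inv] at h3

/-- (LIN) for normalisers: `g ∈ C_G(Z)` and `[g, v] ∈ Z` for one `v ∈ V - Z` imply `g ∈ N_G(V)`. -/
theorem mem_normalizer_of_lin {g v : G} (hg : ∀ z ∈ Z, g * z = z * g) (hv : v ∈ V) (hvZ : v ∉ Z)
    (hgv : g * v * g⁻¹ * v⁻¹ ∈ Z) : g ∈ normalizer (V : Set G) := by
  obtain ⟨s, hs, hc⟩ := h.lin' hg hv hvZ hgv
  have h1 : g = s⁻¹ * (s * g) := by group
  rw [h1]
  exact mul_mem (h.PN (h.BP (inv_mem hs))) (centralizer_le_normalizer _ hc)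

end PB

end Cfsg.Agent.Omega.NO3S.PT
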