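import Cfsg.Agent.Omega.NO3S.PB.Lin
import Cfsg.Agent.Omega.NO3S.PB.Geom

/-!
# The `(R, B)`-frame: `B` is a Sylow 2-subgroup of every `H` with `B ≤ H ≤ C_G(Z)`

* `PB.exists_syl`, `PB.exists_le_conj`, `PB.exists_conj`;
* `PB.exists_cent_line` : all lines on `Z` are conjugate in `C_G(Z)`;
* `PB.inv_fix` : an involution which centralises a point `X` and normalises another point `Y` on a line `L` centralises `Y`.
-/

set_option autoImplicit false
set_option linter.unusedSectionVars false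

namespace Cfsg.Agent.Omega.NO3S.PT

open Subgroup Cfsg.Agent.Omega.NoFF.Basic
open scoped Pointwise

variable {G : Type*} [Group G]

namespace PB

variable [Finite G] {S : Sylow 2 G} {B P V Z : Subgroup G} (h : PB S B P V Z)
include h

theorem isPGroup_B : IsPGroup 2 B := h.isPGroup_of_le le_rfl

/-- every 2-subgroup of `C_G(Z)` has order at most `|B|` -/
theorem card_le_B {D : Subgroup G} (hD : IsPGroup 2 D) (hDZ : D ≤ centralizer (Z : Set G)) :
    Nat.card D ≤ Nat.card B := by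
  obtain ⟨m, -, hm⟩ := h.exists_le_conjB h.SN le_rfl hD (hDZ.trans (centralizer_le_normalizer _)) hDZ
  refine (Subgroup.card_le_of_le hm).trans ?_
  exact (Nat.card_congr (Subgroup.equivSMul (MulAut.conj m) B).toEquiv).ge

/-- `B` is a Sylow 2-subgroup of `H`. -/
theorem exists_syl {H : Subgroup G} (hB : B ≤ H) (hH : H ≤ centralizer (Z : Set G)) :
    ∃ T : Sylow 2 H, (T : Subgroup H) = B.subgroupOf H := by
  obtain ⟨T, hT⟩ := (h.isPGroup_B.comap_subtype (K := H)).exists_le_sylow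
  refine ⟨T, (Subgroup.eq_of_le_of_card_ge hT ?_).symm⟩
  have h1 : Nat.card (B.subgroupOf H) = Nat.card B := Nat.card_congr (Subgroup.subgroupOfEquivOfLe hB).toEquiv
  have h2 : Nat.card ((T : Subgroup H).map H.subtype) = Nat.card T :=
    Nat.card_congr ((T : Subgroup H).equivMapOfInjective H.subtype H.subtype_injective).symm.toEquiv
  show Nat.card T ≤ Nat.card (B.subgroupOf H)
  rw [h1, ← h2]
  refine h.card_le_B (T.isPGroup'.map _) ?_
  refine le_trans ?_ hH
  rintro _ ⟨x, -, rfl⟩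
  exact x.2

/-- A 2-subgroup of `H`, `B ≤ H ≤ C_G(Z)`, lies in an `H`-conjugate of `B`. -/
theorem exists_le_conj {H D : Subgroup G} (hB : B ≤ H) (hH : H ≤ centralizer (Z : Set G)) (hD : IsPGroup 2 D)
    (hDH : D ≤ H) : ∃ m ∈ H, D ≤ cj m B := by
  have : Fact (Nat.Prime 2) := ⟨Nat.prime_two⟩
  obtain ⟨T, hT⟩ := h.exists_syl hB hH
  obtain ⟨T', hT'⟩ := (hD.comap_subtype (K := H)).exists_le_sylow
  obtain ⟨m, hm⟩ := MulAction.exists_smul_eq H T T'
  refine ⟨m, m.2, fun x hx => ?_⟩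
  rw [mem_cj]
  have h1 : (⟨x, hDH hx⟩ : H) ∈ (T' : Subgroup H) := hT' (mem_subgroupOf.2 hx)
  rw [← hm] at h1
  have h2 : (⟨x, hDH hx⟩ : H) ∈ ((m • T : Sylow 2 H) : Subgroup H) := h1
  have h3 := mem_conj (H := (T : Subgroup H)).1 h2
  rw [hT] at h3
  exact mem_subgroupOf.1 h3

/-- Two conjugates of `B` in `H`, `B ≤ H ≤ C_G(Z)`, are conjugate in `H`. -/
theorem exists_conj {H : Subgroup G} (hB : B ≤ H) (hH : H ≤ centralizer (Z : Set G)) {a : G} (ha : cj a B ≤ H) :
    ∃ m ∈ H, cj m B = cj a B := by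
  have hcard : ∀ g : G, Nat.card (cj g B : Subgroup G) = Nat.card B := fun g =>
    (Nat.card_congr (Subgroup.equivSMul (MulAut.conj g) B).toEquiv).symm
  obtain ⟨m, hm, h1⟩ := h.exists_le_conj hB hH (D := cj a B) (by
    have := (h.conj a).isPGroup_of_le (A := cj a B) le_rfl
    exact this) ha
  refine ⟨m, hm, (Subgroup.eq_of_le_of_card_ge h1 ?_).symm⟩
  rw [hcard, hcard]

/-- all lines on `Z` are conjugate in `C_G(Z)` -/
theorem exists_cent_line {M : Subgroup G} (hM : IsCj V M) (hZM : Z ≤ M) :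
    ∃ c ∈ centralizer (Z : Set G), M = cj c V := by
  obtain ⟨g, hg, rfl⟩ := PB.Geom.exists_conj_flag h h.isCj_self hM hZM
  have h1 : cj g B ≤ centralizer (Z : Set G) := by
    have h2 : cj g B ≤ cj g (centralizer (Z : Set G)) := cj_le_cj.2 h.B_le
    rwa [cj_centralizer, ← hg] at h2
  obtain ⟨c, hc, hcB⟩ := h.exists_conj h.B_le le_rfl h1
  refine ⟨c, hc, ?_⟩
  have h2 : c⁻¹ * g ∈ normalizer (B : Set G) := by
    rw [← cj_eq_iff, ← cj_cj, ← hcB, cj_cj, inv_mul_cancel, cj_one]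
  have h5 := cj_eq_iff.2 (h.NB h2)
  rw [← cj_cj] at h5
  have h6 := congrArg (cj c) h5
  rwa [cj_cj, mul_inv_cancel, cj_one] at h6

/-- an involution which centralises the point `X` and normalises the point `Y` on `L`, centralises `Y` -/
theorem inv_fix {L X Y : Subgroup G} (hL : IsCj V L) (hX : IsCj Z X) (hXL : X ≤ L) (hY : IsCj Z Y) (hYL : Y ≤ L)
    (hne : X ≠ Y) {g : G} (hg : g * g = 1) (hgX : ∀ x ∈ X, g * x = x * g) (hgY : cj g Y = Y) :
    ∀ y ∈ Y, g * y = y * g := by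
  have hg2 : TwoEl g := ⟨1, by rw [pow_one, pow_two]; exact hg⟩
  obtain ⟨y, hy, hy1⟩ := h.pt_ne_bot hY
  -- a fixed point of `g` on `Y`
  obtain ⟨u, hu, hu1, hgu⟩ : ∃ u ∈ Y, u ≠ 1 ∧ g * u = u * g := by
    have hyY : g * y * g⁻¹ ∈ Y := by
      have h1 := conj_mem_cj (g := g) hy
      rwa [hgY] at h1
    have hYL' : ∀ a ∈ Y, ∀ b ∈ Y, a * b = b * a := by
      intro a ha b hb
      obtain ⟨c, rfl⟩ := hL
      exact (h.conj c).Vcomm (hYL ha) (hYL hb)
    have hg' : g⁻¹ = g := inv_eq_of_mul_eq_one_left hg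
    by_cases hc : y * (g * y * g⁻¹) = 1
    · refine ⟨y, hy, hy1, ?_⟩
      have hyy : y * y = 1 := by
        obtain ⟨c, rfl⟩ := hL
        exact (h.conj c).Vsq y (hYL hy)
      have h2 : g * y * g⁻¹ = y := by
        have h3 : g * y * g⁻¹ = y⁻¹ := by
          rw [eq_inv_iff_mul_eq_one]
          have := hYL' _ hyY _ hy
          rw [this]; exact hc
        rw [h3, inv_eq_of_mul_eq_one_left hyy]
      rwa [mul_inv_eq_iff_eq_mul] at h2
    · refine ⟨y * (g * y * g⁻¹), mul_mem hy hyY, hc, ?_⟩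
      have h1 := hYL' _ hyY _ hy
      calc g * (y * (g * y * g⁻¹)) = (g * y * g⁻¹) * (g * g) * y * g⁻¹ := by group
        _ = (g * y * g⁻¹) * y * g⁻¹ := by rw [hg]; group
        _ = (g * y * g⁻¹) * y * g := by rw [hg']
        _ = y * (g * y * g⁻¹) * g := by rw [h1]
  have h1 := h.two_col' hL hX hXL hY hYL hne hg2 (mem_centralizer_iff.2 fun x hx => (hgX x hx).symm) hu hu1 hgu
  exact fun v hv => (mem_centralizer_iff.1 h1 v (hYL hv)).symm

end PB

end Cfsg.Agent.Omega.NO3S.PT
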