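import Cfsg.Agent.Omega.NO3S.PB.Basic

/-!
# NO-3S, natural lines, the `(R, B)`-frame: (T6), (T7), (F2), (F2'), (STAR)

`PointFTwo.lean` with `PL S P V Z` replaced by `PB S B P V Z` (field automorphisms allowed), `OmQ S V` by `OmB B V`.
-/

set_option autoImplicit false
set_option linter.unusedSectionVars false

namespace Cfsg.Agent.Omega.NO3S.PT

open Subgroup Cfsg.Agent.Omega.NoFF.Basic
open Cfsg.Agent.Omega.NoFF.ThmJ (EA MaxEA card_sup_mul)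
open scoped Pointwise

variable {G : Type*} [Group G]

namespace PB

variable [Finite G] {S : Sylow 2 G} {B P V Z : Subgroup G} (h : PB S B P V Z)
include h

/-! ### The commutator map -/

/-- `s ↦ [s, v]` -/
def dh {v : G} (hv : v ∈ V) : B →* Z where
  toFun s := ⟨s * v * (s : G)⁻¹ * v⁻¹, h.act s s.2 v hv⟩
  map_one' := by
    apply Subtype.ext
    show (1 : G) * v * (1 : G)⁻¹ * v⁻¹ = 1
    group
  map_mul' s t := by
    apply Subtype.ext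
    show (s : G) * t * v * ((s : G) * t)⁻¹ * v⁻¹ = (s * v * (s : G)⁻¹ * v⁻¹) * (t * v * (t : G)⁻¹ * v⁻¹)
    have h1 := h.cen _ (h.act t t.2 v hv) s s.2
    have h2 : (s : G) * t * v * ((s : G) * t)⁻¹ * v⁻¹ =
      (s : G) * (t * v * (t : G)⁻¹ * v⁻¹) * (s : G)⁻¹ * (s * v * (s : G)⁻¹ * v⁻¹) := by group
    rw [h2, h1, mul_inv_cancel_right]
    exact h.Vcomm (h.ZV (h.act t t.2 v hv)) (h.ZV (h.act s s.2 v hv))

theorem dh_apply {v : G} (hv : v ∈ V) (s : B) : (h.dh hv s : G) = s * v * (s : G)⁻¹ * v⁻¹ := rfl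

theorem mem_cent_of {s v : G} (hs : s ∈ B) (hv : v ∈ V) (hvZ : v ∉ Z) (hsv : s * v = v * s) :
    s ∈ centralizer (V : Set G) := by
  rw [mem_centralizer_iff]
  exact fun v' hv' => (h.free s hs v hv hvZ hsv v' hv').symm

theorem dh_eq_one {v : G} (hv : v ∈ V) (hvZ : v ∉ Z) {s : B} :
    h.dh hv s = 1 ↔ (s : G) ∈ centralizer (V : Set G) := by
  rw [← Subtype.coe_inj, dh_apply, OneMemClass.coe_one, mul_inv_eq_one, mul_inv_eq_iff_eq_mul]
  exact ⟨fun e => h.mem_cent_of s.2 hv hvZ e, fun e => (mem_centralizer_iff.1 e v hv).symm⟩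

/-- `|A| ≤ |C_A(V)| |Z|`, with equality only if `[A, v] = Z` -/
theorem card_le {A : Subgroup G} (hA : A ≤ B) {v : G} (hv : v ∈ V) (hvZ : v ∉ Z) :
    Nat.card A = Nat.card (A ⊓ centralizer (V : Set G) : Subgroup G) *
      Nat.card ((h.dh hv).comp (inclusion hA)).range := by
  have h1 := Subgroup.card_mul_index ((h.dh hv).comp (inclusion hA)).ker
  rw [Subgroup.index_ker] at h1
  rw [← h1]
  congr 1
  refine Nat.card_congr ⟨fun x => ⟨x, ?_⟩, fun x => ⟨⟨x, x.2.1⟩, ?_⟩, fun x => rfl, fun x => rfl⟩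
  · refine ⟨(x : A).2, ?_⟩
    exact (h.dh_eq_one hv hvZ (s := inclusion hA x)).1 x.2
  · exact (h.dh_eq_one hv hvZ (s := inclusion hA ⟨x, x.2.1⟩)).2 x.2.2

/-! ### (T6) -/

theorem EA_V : EA V := ⟨fun v hv => mem_centralizer_iff.2 fun w hw => h.Vcomm hw hv,
  fun v hv => by rw [pow_two]; exact h.Vsq v hv⟩

/-- **(T6)** `Ω₁(Z(C_S(V))) = V` if `J(S)` does not centralise `V`. -/
theorem omQ (hJ : ∃ A : Subgroup G, A ≤ B ∧ MaxEA A ∧ ¬ A ≤ centralizer (V : Set G)) : OmB B V := by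
  obtain ⟨A, hAS, hA, hAV⟩ := hJ
  obtain ⟨v, hv, hvZ⟩ := h.exists_out
  set A1 := A ⊓ centralizer (V : Set G) with hA1
  have hAc : ∀ a ∈ A, ∀ b ∈ A, a * b = b * a := fun a ha b hb => (mem_centralizer_iff.1 (hA.comm ha) b hb).symm
  have hCV : ∀ w ∈ V, (∀ a ∈ A, a * w = w * a) → w ∈ Z := by
    intro w hw hwA
    by_contra hwZ
    exact hAV fun a ha => h.mem_cent_of (hAS ha) hw hwZ (hwA a ha)
  have hEA1 : EA A1 := hA.toEA.mono inf_le_left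
  -- lower bound
  have hlow : Nat.card A1 * Nat.card Z ≤ Nat.card A := by
    have hE : EA (A1 ⊔ V) := hEA1.sup h.EA_V inf_le_right
    have h1 := hA.max _ hE
    have h2 : V ≤ normalizer (A1 : Set G) := by
      refine le_trans ?_ (centralizer_le_normalizer _)
      exact comm_symm inf_le_right
    have h3 := card_sup_mul h2
    have h4 : Nat.card (A1 ⊓ V : Subgroup G) ≤ Nat.card Z := by
      refine Subgroup.card_le_of_le ?_
      rintro w ⟨hw1, hw2⟩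
      exact hCV w hw2 fun a ha => hAc a ha w hw1.1
    rw [h.card] at h3
    have h5 : Nat.card A1 * Nat.card Z * Nat.card Z ≤ Nat.card A * Nat.card Z := by
      calc Nat.card A1 * Nat.card Z * Nat.card Z = Nat.card A1 * (Nat.card Z * Nat.card Z) := by ring
        _ = _ := h3.symm
        _ ≤ Nat.card A * Nat.card Z := Nat.mul_le_mul h1 h4
    exact Nat.le_of_mul_le_mul_right h5 Nat.card_pos
  have hup := h.card_le hAS hv hvZ
  rw [← hA1] at hup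
  -- `[A, v] = Z`
  have hrange : Nat.card Z ≤ Nat.card ((h.dh hv).comp (inclusion hAS)).range := by
    rw [hup] at hlow
    exact Nat.le_of_mul_le_mul_left hlow Nat.card_pos
  have htop : ((h.dh hv).comp (inclusion hAS)).range = ⊤ := by
    apply Subgroup.eq_top_of_card_eq
    exact le_antisymm (Subgroup.card_le_card_group _) hrange
  have hcov : ∀ s ∈ B, ∃ a ∈ A, a⁻¹ * s ∈ centralizer (V : Set G) := by
    intro s hs
    have h1 : h.dh hv ⟨s, hs⟩ ∈ ((h.dh hv).comp (inclusion hAS)).range := by rw [htop]; exact mem_top _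
    obtain ⟨a, ha⟩ := h1
    refine ⟨a, a.2, ?_⟩
    have h2 : h.dh hv ((inclusion hAS a)⁻¹ * ⟨s, hs⟩) = 1 := by
      rw [map_mul, map_inv, ← ha]
      exact inv_mul_cancel _
    exact (h.dh_eq_one hv hvZ).1 h2
  -- the group `Y`
  let Y : Subgroup G :=
    { carrier := {y | y ∈ B ∧ y ∈ centralizer (V : Set G) ∧ y * y = 1 ∧
        ∀ s ∈ B, s ∈ centralizer (V : Set G) → s * y = y * s}
      one_mem' := ⟨one_mem _, one_mem _, one_mul 1, fun s _ _ => by rw [mul_one, one_mul]⟩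
      mul_mem' := by
        rintro a b ⟨ha, ha1, ha2, ha3⟩ ⟨hb, hb1, hb2, hb3⟩
        refine ⟨mul_mem ha hb, mul_mem ha1 hb1, ?_, fun s hs hs1 => ?_⟩
        · have h1 := ha3 b hb hb1
          calc a * b * (a * b) = a * (b * a) * b := by group
            _ = a * (a * b) * b := by rw [h1]
            _ = a * a * (b * b) := by group
            _ = 1 := by rw [ha2, hb2, one_mul]
        · rw [← mul_assoc, ha3 s hs hs1, mul_assoc, hb3 s hs hs1, mul_assoc]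
      inv_mem' := by
        rintro a ⟨ha, ha1, ha2, ha3⟩
        have h1 : a⁻¹ = a := inv_eq_of_mul_eq_one_left ha2
        rw [h1]
        exact ⟨ha, ha1, ha2, ha3⟩ }
  have hYA : Y ≤ centralizer (A1 : Set G) := by
    intro y hy
    rw [mem_centralizer_iff]
    exact fun a ha => hy.2.2.2 a (hAS ha.1) ha.2
  have hEY : EA Y := by
    refine ⟨fun y hy => ?_, fun y hy => by rw [pow_two]; exact hy.2.2.1⟩
    rw [mem_centralizer_iff]
    exact fun y' hy' => hy.2.2.2 y' hy'.1 hy'.2.1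
  have hYZ : A1 ⊓ Y ≤ Z := by
    rintro y ⟨hy1, hy2⟩
    refine h.omega y hy2.1 hy2.2.2.1 fun s hs => ?_
    obtain ⟨a, ha, has⟩ := hcov s hs
    have h1 := hy2.2.2.2 _ (mul_mem (inv_mem (hAS ha)) hs) has
    have h2 : s = a * (a⁻¹ * s) := by group
    rw [h2, mul_assoc, h1, ← mul_assoc, hAc a ha y hy1.1, mul_assoc]
  have hYcard : Nat.card Y ≤ Nat.card V := by
    have hE : EA (A1 ⊔ Y) := hEA1.sup hEY (comm_symm hYA)
    have h1 := hA.max _ hE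
    have h3 := card_sup_mul (hYA.trans (centralizer_le_normalizer _))
    have h4 := Subgroup.card_le_of_le hYZ
    have h5 : Nat.card A1 * Nat.card Y ≤ Nat.card A1 * (Nat.card Z * Nat.card Z) := by
      calc Nat.card A1 * Nat.card Y = _ := h3.symm
        _ ≤ Nat.card A * Nat.card Z := Nat.mul_le_mul h1 h4
        _ = Nat.card A1 * Nat.card ((h.dh hv).comp (inclusion hAS)).range * Nat.card Z := by rw [← hup]
        _ ≤ Nat.card A1 * Nat.card Z * Nat.card Z :=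
          Nat.mul_le_mul_right _ (Nat.mul_le_mul_left _ (Subgroup.card_le_card_group _))
        _ = _ := by ring
    rw [h.card]
    exact Nat.le_of_mul_le_mul_left h5 Nat.card_pos
  have hVY : V ≤ Y := by
    intro w hw
    refine ⟨h.VB hw, mem_centralizer_iff.2 fun w' hw' => h.Vcomm hw' hw, h.Vsq w hw, fun s _ hs1 => ?_⟩
    exact (mem_centralizer_iff.1 hs1 w hw).symm
  have hYV : V = Y := Subgroup.eq_of_le_of_card_ge hVY hYcard
  intro y hy hy1 hy2 hy3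
  rw [hYV]
  exact ⟨hy, hy1, hy2, hy3⟩

/-! ### The action of `kx V Z` on `V` -/

theorem kx_act {g v : G} (hg : g ∈ kx V Z) (hv : v ∈ V) : g * v * g⁻¹ * v⁻¹ ∈ Z :=
  (mem_kx.1 hg).2 v (h.V_le_ws h.ZV hv)

theorem kx_norm_V : kx V Z ≤ normalizer (V : Set G) := kx_normalizes h.ZV (h.V_le_ws h.ZV)

theorem kx_norm_V' {X : Subgroup G} (hXV : X ≤ V) : kx V X ≤ normalizer (V : Set G) :=
  kx_normalizes hXV (h.V_le_ws hXV)

/-- two elements of `kx V Z` commute modulo `C_G(V)` -/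
theorem kx_comm {a b v : G} (ha : a ∈ kx V Z) (hb : b ∈ kx V Z) (hv : v ∈ V) :
    a * b * v * (a * b)⁻¹ = b * a * v * (b * a)⁻¹ := by
  have h1 := h.kx_act ha hv
  have h2 := h.kx_act hb hv
  have h3 := (mem_kx.1 ha).1 _ h2
  have h4 := (mem_kx.1 hb).1 _ h1
  have h5 := h.Vcomm (h.ZV h1) (h.ZV h2)
  calc a * b * v * (a * b)⁻¹ = a * (b * v * b⁻¹ * v⁻¹) * a⁻¹ * (a * v * a⁻¹ * v⁻¹) * v := by group
    _ = (b * v * b⁻¹ * v⁻¹) * (a * v * a⁻¹ * v⁻¹) * v := by rw [h3, mul_inv_cancel_right]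
    _ = (a * v * a⁻¹ * v⁻¹) * (b * v * b⁻¹ * v⁻¹) * v := by rw [h5]
    _ = b * (a * v * a⁻¹ * v⁻¹) * b⁻¹ * (b * v * b⁻¹ * v⁻¹) * v := by rw [h4, mul_inv_cancel_right]
    _ = b * a * v * (b * a)⁻¹ := by group

/-- the squares of `kx V Z` centralise `V` -/
theorem kx_sq {a v : G} (ha : a ∈ kx V Z) (hv : v ∈ V) : a * a * v = v * (a * a) := by
  have h1 := h.kx_act ha hv
  have h3 := (mem_kx.1 ha).1 _ h1
  have h2 := h.Vsq _ (h.ZV h1)
  have h4 : a * a * v * (a * a)⁻¹ = v := by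
    calc a * a * v * (a * a)⁻¹ = a * (a * v * a⁻¹ * v⁻¹) * a⁻¹ * (a * v * a⁻¹ * v⁻¹) * v := by group
      _ = (a * v * a⁻¹ * v⁻¹) * (a * v * a⁻¹ * v⁻¹) * v := by rw [h3, mul_inv_cancel_right]
      _ = v := by rw [h2, one_mul]
  rwa [mul_inv_eq_iff_eq_mul] at h4

/-- `kx V Z = (B ∩ kx V Z) C_{kx}(V)` -/
theorem kx_two {g : G} (hg : g ∈ kx V Z) :
    ∃ k ∈ kx V Z, k ∈ B ∧ k * g⁻¹ ∈ centralizer (V : Set G) := by
  obtain ⟨m, hm, hgm⟩ := exists_odd_pow g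
  -- `g ^ m ≡ g`
  have h1 : g ^ m * g⁻¹ ∈ centralizer (V : Set G) := by
    obtain ⟨j, rfl⟩ := hm
    have h2 : g ^ (2 * j + 1) * g⁻¹ = (g * g) ^ j := by
      rw [pow_succ, mul_inv_cancel_right, pow_mul, pow_two]
    rw [h2]
    refine Subgroup.pow_mem _ ?_ j
    rw [mem_centralizer_iff]
    exact fun v hv => (h.kx_sq hg hv).symm
  have hSK : (S : Subgroup G) ≤ normalizer ((kx V Z : Subgroup G) : Set G) := h.S_le_N.trans (normalizer_le_kx V Z)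
  have hB : zpowers (g ^ m) ≤ kx V Z ⊔ S := (zpowers_le.2 (pow_mem hg m)).trans le_sup_left
  obtain ⟨x, hx, hxB⟩ := h.exists_le_conjB (H := kx V Z ⊔ S) le_sup_right
    (sup_le (kx_le_cent.trans (centralizer_le_normalizer _)) h.S_le_N) hgm.isPGroup hB
    (zpowers_le.2 (kx_le_cent (pow_mem hg m)))
  rw [← SetLike.mem_coe, coe_mul_of_right_le_normalizer_left _ _ hSK] at hx
  obtain ⟨k, hk, s, hs, rfl⟩ := hx
  have h3 : g ^ m ∈ cj (k * s) B := hxB (mem_zpowers _)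
  rw [← cj_cj, cj_eq_iff.2 (h.S_le_NB hs), mem_cj] at h3
  refine ⟨k⁻¹ * g ^ m * k, mul_mem (mul_mem (inv_mem hk) (pow_mem hg m)) hk, h3, ?_⟩
  rw [mem_centralizer_iff]
  intro v hv
  have h4 : ∀ v ∈ V, k⁻¹ * g ^ m * k * v * (k⁻¹ * g ^ m * k)⁻¹ = g ^ m * v * (g ^ m)⁻¹ := by
    intro v hv
    have h5 := h.kx_comm (inv_mem hk) (mul_mem (pow_mem hg m) hk) hv
    calc k⁻¹ * g ^ m * k * v * (k⁻¹ * g ^ m * k)⁻¹ = k⁻¹ * (g ^ m * k) * v * (k⁻¹ * (g ^ m * k))⁻¹ := by group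
      _ = g ^ m * k * k⁻¹ * v * (g ^ m * k * k⁻¹)⁻¹ := h5
      _ = g ^ m * v * (g ^ m)⁻¹ := by group
  have hgV : g ∈ normalizer (V : Set G) := h.kx_norm_V hg
  have h6 : g⁻¹ * v * g ∈ V := by
    have := (mem_normalizer_iff.1 (inv_mem hgV) v).1 hv
    rwa [inv_inv] at this
  have h7 : (g ^ m * g⁻¹) * v * (g ^ m * g⁻¹)⁻¹ = v := by
    rw [mul_inv_eq_iff_eq_mul]
    exact (mem_centralizer_iff.1 h1 v hv).symm
  have h8 : (k⁻¹ * g ^ m * k * g⁻¹) * v * (k⁻¹ * g ^ m * k * g⁻¹)⁻¹ = v := by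
    calc (k⁻¹ * g ^ m * k * g⁻¹) * v * (k⁻¹ * g ^ m * k * g⁻¹)⁻¹
        = k⁻¹ * g ^ m * k * (g⁻¹ * v * g) * (k⁻¹ * g ^ m * k)⁻¹ := by group
      _ = g ^ m * (g⁻¹ * v * g) * (g ^ m)⁻¹ := h4 _ h6
      _ = (g ^ m * g⁻¹) * v * (g ^ m * g⁻¹)⁻¹ := by group
      _ = v := h7
  rw [mul_inv_eq_iff_eq_mul] at h8
  exact h8.symm

section F1

variable (hf : ¬ kx V Z ≤ centralizer (V : Set G))
include hf

/-- **(F1)** `S ∩ kx V Z` covers `S / C_S(V)`. -/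
theorem K_full {s : G} (hs : s ∈ B) :
    ∃ k ∈ kx V Z, k ∈ B ∧ k * s⁻¹ ∈ centralizer (V : Set G) := by
  by_cases hsV : s ∈ centralizer (V : Set G)
  · exact ⟨1, one_mem _, one_mem _, by rw [one_mul]; exact inv_mem hsV⟩
  obtain ⟨g, hg, hgV⟩ := Set.not_subset.1 hf
  obtain ⟨k, hk, hkS, hkg⟩ := h.kx_two hg
  have hkV : k ∉ centralizer (V : Set G) := by
    intro e
    apply hgV
    have h1 := mul_mem (inv_mem hkg) e
    have h2 : (k * g⁻¹)⁻¹ * k = g := by group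
    rwa [h2] at h1
  obtain ⟨t, ht, htZ, hts⟩ := h.torus k hkS s hs hkV hsV
  have h1 : t * k * t⁻¹ ∈ kx V Z := (mem_normalizer_iff.1 (normalizer_le_kx V Z htZ) k).1 hk
  obtain ⟨k', hk', hkS', hkk⟩ := h.kx_two h1
  refine ⟨k', hk', hkS', ?_⟩
  have h2 := mul_mem hkk hts
  have h3 : k' * (t * k * t⁻¹)⁻¹ * (t * k * t⁻¹ * s⁻¹) = k' * s⁻¹ := by group
  rwa [h3] at h2

/-- `[k, v]` takes every value in `Z` -/
theorem K_act {v z : G} (hv : v ∈ V) (hvZ : v ∉ Z) (hz : z ∈ Z) :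
    ∃ k ∈ kx V Z, k ∈ B ∧ k * v * k⁻¹ * v⁻¹ = z := by
  obtain ⟨s, hs, hsz⟩ := h.full v hv hvZ z hz
  obtain ⟨k, hk, hkS, hks⟩ := h.K_full hf hs
  refine ⟨k, hk, hkS, ?_⟩
  have hsV : s ∈ normalizer (V : Set G) := h.PN (h.BP hs)
  have h1 := (mem_normalizer_iff.1 hsV v).1 hv
  have h2 := mem_centralizer_iff.1 hks _ h1
  rw [← hsz]
  congr 1
  calc k * v * k⁻¹ = (k * s⁻¹) * (s * v * s⁻¹) * (k * s⁻¹)⁻¹ := by group
    _ = (s * v * s⁻¹) * (k * s⁻¹) * (k * s⁻¹)⁻¹ := by rw [h2]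
    _ = s * v * s⁻¹ := by group

/-- some element of `S ∩ kx V Z` is nontrivial on `V` -/
theorem exists_K : ∃ k ∈ kx V Z, k ∈ B ∧ k ∉ centralizer (V : Set G) := by
  obtain ⟨g, hg, hgV⟩ := Set.not_subset.1 hf
  obtain ⟨k, hk, hkS, hkg⟩ := h.kx_two hg
  refine ⟨k, hk, hkS, fun e => hgV ?_⟩
  have h1 := mul_mem (inv_mem hkg) e
  have h2 : (k * g⁻¹)⁻¹ * k = g := by group
  rwa [h2] at h1

/-- **(F1)** `kx V Z` is transitive on the points `≠ Z` of `V`. -/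
theorem K_trans {X Y : Subgroup G} (hX : IsCj Z X) (hXV : X ≤ V) (hY : IsCj Z Y) (hYV : Y ≤ V) (hXZ : X ≠ Z)
    (hYZ : Y ≠ Z) : ∃ k ∈ kx V Z, k ∈ B ∧ cj k X = Y := by
  obtain ⟨x, hx, hx1⟩ := h.pt_ne_bot hX
  obtain ⟨z, hz, y, hy, rfl⟩ := h.exists_mul h.isCj_self h.ZV hY hYV hYZ.symm (hXV hx)
  have hxZ : z * y ∉ Z := fun e => hXZ (h.pts_eq hX h.isCj_self hx e hx1)
  have hy1 : y ≠ 1 := by
    rintro rfl
    rw [mul_one] at hxZ
    exact hxZ hz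
  obtain ⟨k, hk, hkS, hkz⟩ := h.K_act hf (hXV hx) hxZ (Z.inv_mem hz)
  refine ⟨k, hk, hkS, h.pts_eq (hX.cj k) hY ?_ hy hy1⟩
  have h1 : k * (z * y) * k⁻¹ = y := by
    rw [mul_inv_eq_iff_eq_mul] at hkz
    rw [hkz]; group
  rw [← h1]
  exact conj_mem_cj hx

end F1

/-- the hypothesis (F1) at the other points of `V` -/
theorem hf_pt (hf : ¬ kx V Z ≤ centralizer (V : Set G)) {X : Subgroup G} (hX : IsCj Z X) (hXV : X ≤ V) :
    ¬ kx V X ≤ centralizer (V : Set G) := by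
  obtain ⟨p, hp, rfl⟩ := h.exists_pt hX hXV
  intro h1
  apply hf
  rw [kx_cj, cj_le_iff, cj_centralizer, cj_eq_iff.2 (inv_mem (h.PN hp))] at h1
  exact h1

/-- two points of `V` are interchanged by a 2-element of some `kx V T` -/
theorem swap (hf : ¬ kx V Z ≤ centralizer (V : Set G)) {X Y : Subgroup G} (hX : IsCj Z X) (hXV : X ≤ V)
    (hY : IsCj Z Y) (hYV : Y ≤ V) : ∃ k ∈ XV V Z, k * k ∈ centralizer (V : Set G) ∧ cj k X = Y ∧ cj k Y = X := by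
  by_cases hXY : X = Y
  · exact ⟨1, one_mem _, by rw [one_mul]; exact one_mem _, by rw [cj_one, hXY], by rw [cj_one, hXY]⟩
  obtain ⟨T, hT, hTV, hTX, hTY⟩ := h.exists_third hX hXV hY hYV hXY
  obtain ⟨S', B', h'⟩ := h.exists_flag hT hTV
  have hc : ∀ {X : Subgroup G}, IsCj Z X → IsCj T X := by
    intro X hX
    obtain ⟨g, rfl⟩ := hT
    exact isCj_cj.2 hX
  obtain ⟨k, hk, -, hkX⟩ := h'.K_trans (h.hf_pt hf hT hTV) (hc hX) hXV (hc hY) hYV hTX.symm hTY.symm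
  have hkk : k * k ∈ centralizer (V : Set G) := by
    rw [mem_centralizer_iff]
    exact fun v hv => (h'.kx_sq hk hv).symm
  refine ⟨k, le_XV hT hTV hk, hkk, hkX, ?_⟩
  rw [← hkX, cj_cj, cj_eq_iff]
  exact centralizer_le_normalizer _ (centralizer_le hXV hkk)

/-! ### (T7) -/

theorem isCj_of {X T : Subgroup G} (hT : IsCj Z T) (hX : IsCj Z X) : IsCj T X := by
  obtain ⟨g, rfl⟩ := hT
  exact isCj_cj.2 hX

/-- **(T7)** `ws V X ⊓ ws V Y` is the same for all pairs of points of `V`. -/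
theorem IV_eq (hf : ¬ kx V Z ≤ centralizer (V : Set G)) {X Y : Subgroup G} (hX : IsCj Z X) (hXV : X ≤ V)
    (hY : IsCj Z Y) (hYV : Y ≤ V) (hne : X ≠ Y) : ws V X ⊓ ws V Y = IV V Z := by
  refine le_antisymm ?_ (le_inf (IV_le hX hXV) (IV_le hY hYV))
  refine le_sInf ?_
  rintro _ ⟨T, hT, hTV, rfl⟩
  by_cases hTX : T = X
  · rw [hTX]; exact inf_le_left
  obtain ⟨S', B', h'⟩ := h.exists_flag hX hXV
  obtain ⟨k, hk, -, hkY⟩ := h'.K_trans (h.hf_pt hf hX hXV) (h.isCj_of hX hY) hYV (h.isCj_of hX hT) hTV hne.symm hTX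
  have h1 : k ∈ normalizer ((ws V X ⊓ ws V Y : Subgroup G) : Set G) :=
    kx_normalizes (le_inf (hXV.trans (h.V_le_ws hXV)) (hXV.trans (h.V_le_ws hYV))) inf_le_left hk
  rw [← cj_eq_iff] at h1
  rw [← h1, ← hkY, ws_cj, cj_le_cj]
  exact inf_le_right

theorem V_le_IV : V ≤ IV V Z := by
  refine le_sInf ?_
  rintro _ ⟨Y, -, hYV, rfl⟩
  exact h.V_le_ws hYV

theorem IV_le_ws : IV V Z ≤ ws V Z := IV_le h.isCj_self h.ZV

theorem IV_comm {a b : G} (ha : a ∈ IV V Z) (hb : b ∈ IV V Z) : a * b = b * a :=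
  (mem_centralizer_iff.1 (h.Wcomm (h.IV_le_ws ha)) b (h.IV_le_ws hb)).symm

theorem IV_sq {a : G} (ha : a ∈ IV V Z) : a * a = 1 := h.ws_sq a (h.IV_le_ws ha)

theorem XV_le_N : XV V Z ≤ normalizer (V : Set G) := by
  refine sSup_le ?_
  rintro _ ⟨Y, -, hYV, rfl⟩
  exact h.kx_norm_V' hYV

/-- `XV` centralises `IV / V`. -/
theorem XV_act {g u : G} (hg : g ∈ XV V Z) (hu : u ∈ IV V Z) : g * u * g⁻¹ * u⁻¹ ∈ V := by
  let E : Subgroup G :=
    { carrier := {g | g ∈ normalizer (V : Set G) ∧ ∀ u ∈ IV V Z, g * u * g⁻¹ * u⁻¹ ∈ V}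
      one_mem' := ⟨one_mem _, fun u _ => by
        have : (1 : G) * u * 1⁻¹ * u⁻¹ = 1 := by group
        rw [this]; exact one_mem _⟩
      mul_mem' := by
        rintro a b ⟨ha, ha'⟩ ⟨hb, hb'⟩
        refine ⟨mul_mem ha hb, fun u hu => ?_⟩
        have e : a * b * u * (a * b)⁻¹ * u⁻¹ = a * (b * u * b⁻¹ * u⁻¹) * a⁻¹ * (a * u * a⁻¹ * u⁻¹) := by group
        rw [e]
        exact V.mul_mem ((mem_normalizer_iff.1 ha _).1 (hb' u hu)) (ha' u hu)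
      inv_mem' := by
        rintro a ⟨ha, ha'⟩
        refine ⟨inv_mem ha, fun u hu => ?_⟩
        have e : a⁻¹ * u * a⁻¹⁻¹ * u⁻¹ = a⁻¹ * (a * u * a⁻¹ * u⁻¹)⁻¹ * a⁻¹⁻¹ := by group
        rw [e]
        exact (mem_normalizer_iff.1 (inv_mem ha) _).1 (V.inv_mem (ha' u hu)) }
  have h1 : XV V Z ≤ E := by
    refine sSup_le ?_
    rintro _ ⟨Y, hY, hYV, rfl⟩ k hk
    exact ⟨h.kx_norm_V' hYV hk, fun u hu => hYV ((mem_kx.1 hk).2 u (IV_le hY hYV hu))⟩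
  exact (h1 hg).2 u hu

/-- a nontrivial subgroup of `IV` normalised by `S` meets `Z` -/
theorem exists_fixed {D : Subgroup G} (hD : D ≤ IV V Z) (hDS : B ≤ normalizer (D : Set G))
    (hne : D ≠ ⊥) : ∃ d ∈ D, d ∈ Z ∧ d ≠ 1 := by
  have : Fact (Nat.Prime 2) := ⟨Nat.prime_two⟩
  have hDS' : D ≤ B := hD.trans (h.IV_le_ws.trans h.ws_le_B)
  let _ : MulAction B D :=
    { smul := fun s d => ⟨(s : G) * d * (s : G)⁻¹, (mem_normalizer_iff.1 (hDS s.2) d).1 d.2⟩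
      one_smul := fun d => Subtype.ext (by
        show (1 : G) * d * (1 : G)⁻¹ = d
        group)
      mul_smul := fun s t d => Subtype.ext (by
        show (s : G) * t * d * ((s : G) * t)⁻¹ = (s : G) * ((t : G) * d * (t : G)⁻¹) * (s : G)⁻¹
        group) }
  have h2 : 2 ∣ Nat.card D := by
    obtain ⟨n, hn⟩ := IsPGroup.iff_card.1 (h.isPGroup_of_le hDS')
    rw [hn]
    have : n ≠ 0 := by
      rintro rfl
      rw [pow_zero] at hn
      exact hne (Subgroup.card_eq_one.1 hn)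
    exact dvd_pow_self 2 this
  obtain ⟨d, hd, hd1⟩ := (h.isPGroup_of_le le_rfl).exists_fixed_point_of_prime_dvd_card_of_fixed_point D h2 (a := 1) (by
    intro s
    apply Subtype.ext
    show (s : G) * (1 : G) * (s : G)⁻¹ = 1
    group)
  refine ⟨d, d.2, ?_, fun e => hd1 (Subtype.ext e.symm)⟩
  refine h.omega d (hDS' d.2) (h.IV_sq (hD d.2)) fun s hs => ?_
  have h3 : (⟨s, hs⟩ : B) • d = d := hd _
  have h4 : s * (d : G) * s⁻¹ = d := congrArg Subtype.val h3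
  rwa [mul_inv_eq_iff_eq_mul] at h4

/-- `C_{IV}(XV) = 1` -/
theorem cent_IV (hf : ¬ kx V Z ≤ centralizer (V : Set G)) {u : G} (hu : u ∈ IV V Z)
    (hc : ∀ g ∈ XV V Z, g * u = u * g) : u = 1 := by
  by_contra hu1
  set D : Subgroup G := IV V Z ⊓ centralizer ((XV V Z : Subgroup G) : Set G) with hD
  have hDn : B ≤ normalizer (D : Set G) := by
    intro s hs
    have hsV := h.PN (h.BP hs)
    rw [← cj_eq_iff, hD, cj_inf, cj_centralizer, cj_eq_iff.2 (normalizer_le_IV V Z hsV),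
      cj_eq_iff.2 (normalizer_le_XV V Z hsV)]
  obtain ⟨d, hd, hdZ, hd1⟩ := h.exists_fixed (D := D) inf_le_left hDn (by
    intro e
    apply hu1
    rw [← mem_bot (G := G), ← e]
    refine ⟨hu, mem_centralizer_iff.2 fun g hg => hc g hg⟩)
  obtain ⟨Y, hY, hYV, hYZ⟩ := h.exists_second h.isCj_self h.ZV
  obtain ⟨S', B', h'⟩ := h.exists_flag hY hYV
  obtain ⟨k, hk, hkS, hkV⟩ := h'.exists_K (h.hf_pt hf hY hYV)
  have h1 : k * d = d * k := mem_centralizer_iff.1 hd.2 k (le_XV hY hYV hk)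
  have hdY : d ∈ Y := by
    by_contra e
    exact hkV (h'.mem_cent_of hkS (h.ZV hdZ) e h1)
  exact hYZ (h.pts_eq hY h.isCj_self hdY hdZ hd1)

/-- **CLAIM**: `C_{IV}(C_{XV}(V)) = V`. -/
theorem mem_V_of_comm (hf : ¬ kx V Z ≤ centralizer (V : Set G)) (hO : OmB B V) {u : G} (hu : u ∈ IV V Z)
    (hc : ∀ c ∈ XV V Z, c ∈ centralizer (V : Set G) → c * u = u * c) : u ∈ V := by
  have huV : ∀ v ∈ V, v * u = u * v := fun v hv => h.IV_comm (h.V_le_IV hv) hu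
  refine hO u (h.ws_le_B (h.IV_le_ws hu)) (mem_centralizer_iff.2 huV) (h.IV_sq hu) fun c _ hcV => ?_
  have hcN : c ∈ normalizer (V : Set G) := centralizer_le_normalizer _ hcV
  have hcv : ∀ v ∈ V, c * v = v * c := fun v hv => (mem_centralizer_iff.1 hcV v hv).symm
  set t := c * u * c⁻¹ * u⁻¹ with ht
  have htI : t ∈ IV V Z :=
    mul_mem ((mem_normalizer_iff.1 (normalizer_le_IV V Z hcN) u).1 hu) (inv_mem hu)
  have ht1 : t = 1 := by
    refine h.cent_IV hf htI fun g hg => ?_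
    have hgN := h.XV_le_N hg
    set v := g * u * g⁻¹ * u⁻¹ with hv
    have hvV : v ∈ V := h.XV_act hg hu
    -- `e = g⁻¹ c⁻¹ g c`
    have he1 : g⁻¹ * (c⁻¹ * g * c) ∈ XV V Z := by
      refine mul_mem (inv_mem hg) ?_
      have := (mem_normalizer_iff.1 (normalizer_le_XV V Z (inv_mem hcN)) g).1 hg
      rwa [inv_inv] at this
    have he2 : g⁻¹ * (c⁻¹ * g * c) ∈ centralizer (V : Set G) := by
      rw [mem_centralizer_iff]
      intro w hw
      have hw' : g * w * g⁻¹ ∈ V := (mem_normalizer_iff.1 hgN w).1 hw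
      have e1 := hcv w hw
      have e2 := hcv _ hw'
      have e3 : g⁻¹ * (c⁻¹ * g * c) * w * (g⁻¹ * (c⁻¹ * g * c))⁻¹ = w := by
        calc g⁻¹ * (c⁻¹ * g * c) * w * (g⁻¹ * (c⁻¹ * g * c))⁻¹
            = g⁻¹ * c⁻¹ * g * (c * w) * c⁻¹ * g⁻¹ * c * g := by group
          _ = g⁻¹ * c⁻¹ * g * (w * c) * c⁻¹ * g⁻¹ * c * g := by rw [e1]
          _ = g⁻¹ * c⁻¹ * ((g * w * g⁻¹) * c) * g := by group
          _ = g⁻¹ * c⁻¹ * (c * (g * w * g⁻¹)) * g := by rw [e2]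
          _ = w := by group
      rw [mul_inv_eq_iff_eq_mul] at e3
      exact e3.symm
    have he := hc _ he1 he2
    have hgu : g * u * g⁻¹ = v * u := by rw [hv]; group
    have h1 : g * (c * u * c⁻¹) * g⁻¹ = v * (c * u * c⁻¹) := by
      calc g * (c * u * c⁻¹) * g⁻¹
          = c * g * ((g⁻¹ * (c⁻¹ * g * c)) * u) * (g⁻¹ * (c⁻¹ * g * c))⁻¹ * g⁻¹ * c⁻¹ := by group
        _ = c * g * (u * (g⁻¹ * (c⁻¹ * g * c))) * (g⁻¹ * (c⁻¹ * g * c))⁻¹ * g⁻¹ * c⁻¹ := by rw [he]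
        _ = c * (g * u * g⁻¹) * c⁻¹ := by group
        _ = c * (v * u) * c⁻¹ := by rw [hgu]
        _ = (c * v) * u * c⁻¹ := by group
        _ = (v * c) * u * c⁻¹ := by rw [hcv v hvV]
        _ = v * (c * u * c⁻¹) := by group
    have h2 : g * t * g⁻¹ = t := by
      calc g * t * g⁻¹ = (g * (c * u * c⁻¹) * g⁻¹) * (g * u * g⁻¹)⁻¹ := by rw [ht]; group
        _ = v * (c * u * c⁻¹) * (v * u)⁻¹ := by rw [h1, hgu]
        _ = v * t * v⁻¹ := by rw [ht]; group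
        _ = t := by rw [h.IV_comm (h.V_le_IV hvV) htI, mul_inv_cancel_right]
    rwa [mul_inv_eq_iff_eq_mul] at h2
  rw [ht, mul_inv_eq_one, mul_inv_eq_iff_eq_mul] at ht1
  exact ht1

/-- `XV` is irreducible on `V` -/
theorem irr (hf : ¬ kx V Z ≤ centralizer (V : Set G)) {D : Subgroup G} (hD : D ≤ V)
    (hDn : ∀ g ∈ XV V Z, ∀ d ∈ D, g * d * g⁻¹ ∈ D) (hne : D ≠ ⊥) : D = V := by
  obtain ⟨d, hd, hd1⟩ : ∃ d ∈ D, d ≠ 1 := by
    by_contra hcon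
    push Not at hcon
    exact hne ((eq_bot_iff_forall _).2 hcon)
  obtain ⟨Y, hY, hYV, hdY⟩ := h.exists_point (hD hd) hd1
  have key : ∀ T, IsCj Z T → T ≤ V → T ≠ Y → T ≤ D := by
    intro T hT hTV hTY y hy
    obtain ⟨S', B', h'⟩ := h.exists_flag hT hTV
    obtain ⟨k, hk, -, hky⟩ := h'.K_act (h.hf_pt hf hT hTV) (hD hd)
      (fun e => hTY (h.pts_eq hT hY e hdY hd1)) hy
    rw [← hky]
    exact mul_mem (hDn k (le_XV hT hTV hk) d hd) (inv_mem hd)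
  obtain ⟨T, hT, hTV, hTY⟩ := h.exists_second hY hYV
  obtain ⟨T', hT', hTV', hTT, hTY'⟩ := h.exists_third hT hTV hY hYV hTY
  refine le_antisymm hD fun v hv => ?_
  obtain ⟨x, hx, y, hy, rfl⟩ := h.exists_mul hT hTV hT' hTV' hTT.symm hv
  exact mul_mem (key T hT hTV hTY hx) (key T' hT' hTV' hTY' hy)

section F2

variable (hf : ¬ kx V Z ≤ centralizer (V : Set G)) (hO : OmB B V) {u : G} (hu : u ∈ IV V Z) (huV : u ∉ V)
include hf hO hu huV

/-- **(F2)** `c ↦ [c, u]` maps `C_{XV}(V)` onto `V`. -/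
theorem F2 {v : G} (hv : v ∈ V) : ∃ c ∈ XV V Z, c ∈ centralizer (V : Set G) ∧ c * u * c⁻¹ * u⁻¹ = v := by
  let D : Subgroup G :=
    { carrier := {v | v ∈ V ∧ ∃ c ∈ XV V Z, c ∈ centralizer (V : Set G) ∧ c * u * c⁻¹ * u⁻¹ = v}
      one_mem' := ⟨one_mem _, 1, one_mem _, one_mem _, by group⟩
      mul_mem' := by
        rintro _ _ ⟨ha, a, ha1, ha2, rfl⟩ ⟨hb, b, hb1, hb2, rfl⟩
        refine ⟨mul_mem ha hb, a * b, mul_mem ha1 hb1, mul_mem ha2 hb2, ?_⟩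
        have h1 := mem_centralizer_iff.1 ha2 _ hb
        calc a * b * u * (a * b)⁻¹ * u⁻¹ = a * (b * u * b⁻¹ * u⁻¹) * a⁻¹ * (a * u * a⁻¹ * u⁻¹) := by group
          _ = (b * u * b⁻¹ * u⁻¹) * (a * u * a⁻¹ * u⁻¹) := by rw [← h1, mul_inv_cancel_right]
          _ = _ := h.Vcomm hb ha
      inv_mem' := by
        rintro _ ⟨ha, a, ha1, ha2, rfl⟩
        refine ⟨inv_mem ha, a⁻¹, inv_mem ha1, inv_mem ha2, ?_⟩
        have h1 := mem_centralizer_iff.1 ha2 _ (V.inv_mem ha)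
        calc a⁻¹ * u * a⁻¹⁻¹ * u⁻¹ = a⁻¹ * ((a * u * a⁻¹ * u⁻¹)⁻¹ * a) := by group
          _ = a⁻¹ * (a * (a * u * a⁻¹ * u⁻¹)⁻¹) := by rw [h1]
          _ = _ := by group }
  have hD : D = V := by
    refine h.irr hf (fun d hd => hd.1) ?_ ?_
    · rintro g hg _ ⟨hd, c, hc, hcV, rfl⟩
      have hgN := h.XV_le_N hg
      have hcg : g * c * g⁻¹ ∈ XV V Z := mul_mem (mul_mem hg hc) (inv_mem hg)
      have hcgV : g * c * g⁻¹ ∈ centralizer (V : Set G) := by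
        have h1 : g * c * g⁻¹ ∈ cj g (centralizer (V : Set G)) := conj_mem_cj hcV
        rwa [cj_centralizer, cj_eq_iff.2 hgN] at h1
      refine ⟨(mem_normalizer_iff.1 hgN _).1 hd, g * c * g⁻¹, hcg, hcgV, ?_⟩
      set v := g * u * g⁻¹ * u⁻¹ with hv
      have hvV : v ∈ V := h.XV_act hg hu
      have h2 := mem_centralizer_iff.1 hcgV v hvV
      have h3 : (g * c * g⁻¹) * u * (g * c * g⁻¹)⁻¹ * u⁻¹ ∈ V := h.XV_act hcg hu
      have h4 := h.Vcomm hvV h3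
      have hgu : g * u * g⁻¹ = v * u := by rw [hv]; group
      symm
      calc g * (c * u * c⁻¹ * u⁻¹) * g⁻¹
          = (g * c * g⁻¹) * (g * u * g⁻¹) * (g * c * g⁻¹)⁻¹ * (g * u * g⁻¹)⁻¹ := by group
        _ = (g * c * g⁻¹) * (v * u) * (g * c * g⁻¹)⁻¹ * (v * u)⁻¹ := by rw [hgu]
        _ = ((g * c * g⁻¹) * v) * u * (g * c * g⁻¹)⁻¹ * u⁻¹ * v⁻¹ := by group
        _ = (v * (g * c * g⁻¹)) * u * (g * c * g⁻¹)⁻¹ * u⁻¹ * v⁻¹ := by rw [h2]
        _ = v * ((g * c * g⁻¹) * u * (g * c * g⁻¹)⁻¹ * u⁻¹) * v⁻¹ := by group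
        _ = (g * c * g⁻¹) * u * (g * c * g⁻¹)⁻¹ * u⁻¹ := by rw [h4, mul_inv_cancel_right]
    · intro e
      apply huV
      refine h.mem_V_of_comm hf hO hu fun c hc hcV => ?_
      have h1 : c * u * c⁻¹ * u⁻¹ ∈ D := ⟨h.XV_act hc hu, c, hc, hcV, rfl⟩
      rw [e, mem_bot, mul_inv_eq_one, mul_inv_eq_iff_eq_mul] at h1
      exact h1
  have h1 : v ∈ D := by rw [hD]; exact hv
  exact h1.2

/-- **(F2)** `C_{XV}(u)` covers `XV / C_{XV}(V)`. -/
theorem F2_cover {g : G} (hg : g ∈ XV V Z) : ∃ x ∈ XV V Z, x * u = u * x ∧ x * g⁻¹ ∈ centralizer (V : Set G) := by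
  obtain ⟨c, hc, hcV, hcu⟩ := h.F2 hf hO hu huV (V.inv_mem (h.XV_act hg hu))
  refine ⟨c * g, mul_mem hc hg, ?_, by rwa [mul_inv_cancel_right]⟩
  have h1 := mem_centralizer_iff.1 hcV _ (h.XV_act hg hu)
  have h2 : c * g * u * (c * g)⁻¹ * u⁻¹ = 1 := by
    calc c * g * u * (c * g)⁻¹ * u⁻¹ = (c * (g * u * g⁻¹ * u⁻¹)) * c⁻¹ * (c * u * c⁻¹ * u⁻¹) := by group
      _ = ((g * u * g⁻¹ * u⁻¹) * c) * c⁻¹ * (g * u * g⁻¹ * u⁻¹)⁻¹ := by rw [hcu, h1]
      _ = 1 := by group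
  rwa [mul_inv_eq_one, mul_inv_eq_iff_eq_mul] at h2

/-- **(F2)** two points of `V` are interchanged by a 2-element of `XV` centralising `u`. -/
theorem F2_swap {X Y : Subgroup G} (hX : IsCj Z X) (hXV : X ≤ V) (hY : IsCj Z Y) (hYV : Y ≤ V) :
    ∃ x ∈ XV V Z, TwoEl x ∧ x * u = u * x ∧ cj x X = Y ∧ cj x Y = X := by
  obtain ⟨k, hk, hkk, hkX, hkY⟩ := h.swap hf hX hXV hY hYV
  obtain ⟨x, hx, hxu, hxk⟩ := h.F2_cover hf hO hu huV hk
  obtain ⟨m, hm, hxm⟩ := exists_odd_pow x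
  -- `x * x` centralises `V`
  have hkN := h.XV_le_N hk
  have hact : ∀ {T : Subgroup G}, T ≤ V → cj x T = cj k T := by
    intro T hT
    have h1 : cj (x * k⁻¹) (cj k T) = cj k T := by
      rw [cj_eq_iff]
      refine centralizer_le_normalizer _ (centralizer_le ?_ hxk)
      show cj k T ≤ V
      rw [cj_le_iff, cj_eq_iff.2 (inv_mem hkN)]
      exact hT
    rw [cj_cj, inv_mul_cancel_right] at h1
    exact h1
  have hxx : x * x ∈ centralizer (V : Set G) := by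
    have h1 : x * k⁻¹ * (k * (x * k⁻¹) * k⁻¹) ∈ centralizer (V : Set G) := by
      refine mul_mem hxk ?_
      have h2 : k * (x * k⁻¹) * k⁻¹ ∈ cj k (centralizer (V : Set G)) := conj_mem_cj hxk
      rwa [cj_centralizer, cj_eq_iff.2 hkN] at h2
    have h2 := mul_mem h1 hkk
    have h3 : x * k⁻¹ * (k * (x * k⁻¹) * k⁻¹) * (k * k) = x * x := by group
    rwa [h3] at h2
  have hpow : ∀ {T : Subgroup G}, T ≤ V → cj (x ^ m) T = cj x T := by
    intro T hT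
    obtain ⟨j, rfl⟩ := hm
    have h1 : x ^ (2 * j + 1) = x * (x * x) ^ j := by rw [pow_succ', pow_mul, pow_two]
    rw [h1, ← cj_cj, cj_eq_iff.2 (centralizer_le_normalizer _ (centralizer_le hT (pow_mem hxx j)))]
  refine ⟨x ^ m, pow_mem hx m, hxm, ?_, ?_, ?_⟩
  · exact (Commute.pow_left (show Commute x u from hxu) m).eq
  · rw [hpow hXV, hact hXV, hkX]
  · rw [hpow hYV, hact hYV, hkY]

/-- **(F2')** `[u, C_{kx Y}(V)] = Y` for every point `Y` of `V`. -/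
theorem F2' {Y : Subgroup G} (hY : IsCj Z Y) (hYV : Y ≤ V) {y : G} (hy : y ∈ Y) :
    ∃ d ∈ kx V Y, d ∈ centralizer (V : Set G) ∧ d * u * d⁻¹ * u⁻¹ = y := by
  obtain ⟨S', B', h'⟩ := h.exists_flag hY hYV
  obtain ⟨v, hv, hvY⟩ := h'.exists_out
  obtain ⟨r, hr, -, hrv⟩ := h'.K_act (h.hf_pt hf hY hYV) hv hvY (Y.inv_mem hy)
  obtain ⟨c, hc, hcV, hcu⟩ := h.F2 hf hO hu huV hv
  have hrN := h.kx_norm_V' hYV hr
  have hcY : c ∈ normalizer (Y : Set G) := centralizer_le_normalizer _ (centralizer_le hYV hcV)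
  have hcN : c ∈ normalizer (V : Set G) := centralizer_le_normalizer _ hcV
  refine ⟨c * r * c⁻¹ * r⁻¹, ?_, ?_, ?_⟩
  · exact mul_mem ((mem_normalizer_iff.1 (normalizer_le_kx V Y hcY) r).1 hr) (inv_mem hr)
  · have h1 : r * c⁻¹ * r⁻¹ ∈ cj r (centralizer (V : Set G)) := conj_mem_cj (inv_mem hcV)
    rw [cj_centralizer, cj_eq_iff.2 hrN] at h1
    have h2 := mul_mem hcV h1
    have h3 : c * (r * c⁻¹ * r⁻¹) = c * r * c⁻¹ * r⁻¹ := by group
    rwa [h3] at h2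
  · -- `r⁻¹ u r = y₁ u`
    obtain ⟨y₁, hy₁, hry⟩ : ∃ y₁ ∈ Y, r⁻¹ * u * r = y₁ * u := by
      refine ⟨r⁻¹ * u * r⁻¹⁻¹ * u⁻¹, (mem_kx.1 (inv_mem hr)).2 u (IV_le hY hYV hu), by group⟩
    have hry' : r * u * r⁻¹ = y₁⁻¹ * u := by
      have h1 := (mem_kx.1 hr).1 y₁ hy₁
      have h2 : u = r * (y₁ * u) * r⁻¹ := by rw [← hry]; group
      have h3 : r * (y₁ * u) * r⁻¹ = y₁ * (r * u * r⁻¹) := by
        calc r * (y₁ * u) * r⁻¹ = (r * y₁) * u * r⁻¹ := by group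
          _ = (y₁ * r) * u * r⁻¹ := by rw [h1]
          _ = _ := by group
      rw [h3] at h2
      rw [eq_inv_mul_iff_mul_eq]
      exact h2.symm
    have hcu' : c * u * c⁻¹ = v * u := by
      rw [mul_inv_eq_iff_eq_mul] at hcu
      exact hcu
    have hcv : ∀ w ∈ V, c * w * c⁻¹ = w := fun w hw => by
      rw [mul_inv_eq_iff_eq_mul]; exact (mem_centralizer_iff.1 hcV w hw).symm
    have hcv' : ∀ w ∈ V, c⁻¹ * w * c = w := fun w hw => by
      have := hcv w hw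
      nth_rewrite 1 [← this]
      group
    have hcu'' : c⁻¹ * u * c = v⁻¹ * u := by
      have h1 : u = v⁻¹ * (c * u * c⁻¹) := by rw [hcu']; group
      nth_rewrite 1 [h1]
      calc c⁻¹ * (v⁻¹ * (c * u * c⁻¹)) * c = (c⁻¹ * v⁻¹ * c) * u := by group
        _ = v⁻¹ * u := by rw [hcv' _ (V.inv_mem hv)]
    have hrv' : r * v * r⁻¹ = y⁻¹ * v := by
      rw [mul_inv_eq_iff_eq_mul] at hrv
      exact hrv
    have hrvi : r * v⁻¹ * r⁻¹ = v⁻¹ * y := by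
      have : r * v⁻¹ * r⁻¹ = (r * v * r⁻¹)⁻¹ := by group
      rw [this, hrv']; group
    have hry1 : r * y₁ * r⁻¹ = y₁ := by rw [mul_inv_eq_iff_eq_mul]; exact (mem_kx.1 hr).1 y₁ hy₁
    have hyV := hYV hy
    have hy1V := hYV hy₁
    have cvy : v * y = y * v := h.Vcomm hv hyV
    have cvi : v⁻¹ * y = y * v⁻¹ := h.Vcomm (V.inv_mem hv) hyV
    calc c * r * c⁻¹ * r⁻¹ * u * (c * r * c⁻¹ * r⁻¹)⁻¹ * u⁻¹
        = c * r * c⁻¹ * (r⁻¹ * u * r) * c * r⁻¹ * c⁻¹ * u⁻¹ := by group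
      _ = c * r * (c⁻¹ * (y₁ * u) * c) * r⁻¹ * c⁻¹ * u⁻¹ := by rw [hry]; group
      _ = c * r * ((c⁻¹ * y₁ * c) * (c⁻¹ * u * c)) * r⁻¹ * c⁻¹ * u⁻¹ := by group
      _ = c * r * (y₁ * (v⁻¹ * u)) * r⁻¹ * c⁻¹ * u⁻¹ := by rw [hcv' _ hy1V, hcu'']
      _ = c * ((r * y₁ * r⁻¹) * (r * v⁻¹ * r⁻¹) * (r * u * r⁻¹)) * c⁻¹ * u⁻¹ := by group
      _ = c * (y₁ * (v⁻¹ * y) * (y₁⁻¹ * u)) * c⁻¹ * u⁻¹ := by rw [hry1, hrvi, hry']
      _ = c * ((y₁ * (v⁻¹ * y) * y₁⁻¹) * u) * c⁻¹ * u⁻¹ := by group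
      _ = c * ((v⁻¹ * y) * u) * c⁻¹ * u⁻¹ := by
        rw [h.Vcomm hy1V (V.mul_mem (V.inv_mem hv) hyV), mul_inv_cancel_right]
      _ = (c * (v⁻¹ * y) * c⁻¹) * (c * u * c⁻¹) * u⁻¹ := by group
      _ = (v⁻¹ * y) * (v * u) * u⁻¹ := by rw [hcv _ (V.mul_mem (V.inv_mem hv) hyV), hcu']
      _ = v⁻¹ * (y * v) := by group
      _ = y := by rw [← cvy]; group

end F2

/-- **(STAR)** Let `X`, `Y` be points of the line `V` and `A` a point not on `V`. If some `u ∈ A#` is contained in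
`IV = ws V X ⊓ ws V Y`, then `W_A` commutes with `W_X` if and only if it commutes with `W_Y`. -/
theorem star (hf : ¬ kx V Z ≤ centralizer (V : Set G)) (hO : OmB B V) {A X Y : Subgroup G} (hA : IsCj Z A)
    (hAV : ¬ A ≤ V) (hX : IsCj Z X) (hXV : X ≤ V) (hY : IsCj Z Y) (hYV : Y ≤ V) {u : G} (huA : u ∈ A) (hu1 : u ≠ 1)
    (hu : u ∈ IV V Z) (hcom : ws V A ≤ centralizer ((ws V X : Subgroup G) : Set G)) :
    ws V A ≤ centralizer ((ws V Y : Subgroup G) : Set G) := by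
  have huV : u ∉ V := by
    intro e
    obtain ⟨T, hT, hTV, huT⟩ := h.exists_point e hu1
    exact hAV (h.pts_eq hA hT huA huT hu1 ▸ hTV)
  obtain ⟨x, -, hx2, hxu, hxX, -⟩ := h.F2_swap hf hO hu huV hX hXV hY hYV
  have h2 : cj x A = A := cj_eq_iff.2 (h.norm_of_comm hA huA hu1 hxu)
  have h3 := conj_le_centralizer (g := x) hcom
  change cj x (ws V A) ≤ centralizer ((cj x (ws V X) : Subgroup G) : Set G) at h3
  rwa [← ws_cj, ← ws_cj, h2, hxX] at h3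

end PB

end Cfsg.Agent.Omega.NO3S.PT
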